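import Cfsg.Statements.S4479
import Cfsg.Agent.Blk.PrinDih

set_option autoImplicit false
open Cfsg

namespace Cfsg.Agent.S4479

open Cfsg Subgroup in
theorem finsum_four {G : Type*} [Group G] [Finite G] {B : Set (IrrCharacter G)}
    {χ₁ χ₂ χ₃ : IrrCharacter G}
    (hB : B = {χ : IrrCharacter G | (χ : G → ℂ) = (fun _ => 1) ∨ χ = χ₁ ∨ χ = χ₂ ∨ χ = χ₃})
    (hdist : (χ₁ : G → ℂ) ≠ (fun _ => 1) ∧ (χ₂ : G → ℂ) ≠ (fun _ => 1) ∧
      (χ₃ : G → ℂ) ≠ (fun _ => 1) ∧ χ₁ ≠ χ₂ ∧ χ₁ ≠ χ₃ ∧ χ₂ ≠ χ₃) (F : IrrCharacter G → ℂ) :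
    ∑ᶠ χ ∈ B, F χ = F (IrrCharacter.one G) + F χ₁ + F χ₂ + F χ₃ := by
  classical
  obtain ⟨h1, h2, h3, h12, h13, h23⟩ := hdist
  have e : ∀ χ : IrrCharacter G, (χ : G → ℂ) = (fun _ => 1) ↔ χ = IrrCharacter.one G :=
    fun χ => ⟨fun h => Subtype.ext h, fun h => h ▸ rfl⟩
  have hB' : B = ({IrrCharacter.one G, χ₁, χ₂, χ₃} : Finset (IrrCharacter G)) := by
    rw [hB]; ext χ; simp [e]
  rw [hB', finsum_mem_coe_finset]
  rw [ne_eq, e] at h1 h2 h3
  rw [Finset.sum_insert (by simp [Ne.symm h1, Ne.symm h2, Ne.symm h3]),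
    Finset.sum_insert (by simp [h12, h13]), Finset.sum_insert (by simp [h23]), Finset.sum_singleton]
  ring

open Cfsg Subgroup in
theorem setup {G : Type*} [Group G] [Finite G] (g₀ : ℕ) (hg₀ : Odd g₀) (hG : Nat.card G = 4 * g₀)
    (hnc : ¬ ∃ N : Subgroup G, N.Normal ∧ Nat.card N = g₀) (P : Sylow 2 G) :
    Nat.card (P : Subgroup G) = 4 ∧ ¬ HasNormalPComplement 2 G := by
  have h0 : ¬ 2 ∣ g₀ := hg₀.not_two_dvd_nat
  have hf : (Nat.card G).factorization 2 = 2 := by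
    rw [hG, Nat.factorization_mul (by norm_num) hg₀.pos.ne', Finsupp.add_apply,
      Nat.factorization_eq_zero_of_not_dvd h0, show 4 = 2 ^ 2 from rfl,
      Nat.Prime.factorization_pow Nat.prime_two]
    simp
  refine ⟨by rw [P.card_eq_multiplicity, hf]; rfl, fun h => hnc ⟨pPrimeCore 2 G, inferInstance, ?_⟩⟩
  have h1 := (pPrimeCore 2 G).card_mul_index
  rw [h.index_pPrimeCore, hf, hG] at h1
  omega

open Cfsg Subgroup in
theorem count {G : Type*} [Group G] [Finite G] {M : Ideal AlgInt} (hM : IsPModular 2 M)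
    (P : Sylow 2 G) (hP : Nat.card (P : Subgroup G) = 4) (hn : ¬ HasNormalPComplement 2 G)
    {J : G} (hJ : J ∈ (P : Subgroup G)) (hJ2 : orderOf J = 2) :
    (Nat.card G : ℂ) * (Nat.card (centralizer ((P : Subgroup G) : Set G)) : ℂ) ^ 2 *
      ∑ᶠ χ ∈ principalBlock M G, χ J ^ 3 / χ 1 =
        8 * (Nat.card (centralizer ({J} : Set G)) : ℂ) ^ 3 := by
  classical
  haveI := Fintype.ofFinite G
  obtain ⟨hexp, hone⟩ := klein_of_not_hasNormalPComplement P hP hn hJ hJ2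
  obtain ⟨τ, h⟩ := exists_isDihPair_of_card_four hP hexp hJ hJ2
  have hm := mem_zpowers J
  have hJ1 : J ≠ 1 := by rintro rfl; simp at hJ2
  have hJe := isPElt_two_of_orderOf hJ2
  have hs1 : secOne 2 J 1 = 0 := secOne_of_notMem (by
    rw [mem_pSection, pPart_one, isConj_one_right]; exact hJ1)
  have hsJ : secOne 2 J J = 1 := secOne_of_mem (self_mem_pSection hJe)
  have h1 := h.sum_pairs P.isPGroup' P.not_dvd_index hm hJ2 hone (isClassFunction_secOne 2 J) hs1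
    (fun g => by simp only [secOne, Set.indicator, mem_pSection, pPart_pPart]) (Or.inl rfl)
    (N := 2) two_ne_zero (c := 1 / 2) (fun a ha => by
      rcases eq_one_or_eq_of_mem_zpowers_of_orderOf_two hJ2 ha with rfl | rfl <;>
        simp [Finset.sum_range_succ, hs1, hsJ, hexp _ hJ])
  have hC := h.hasNormalPComplement P.isPGroup' P.not_dvd_index hm hJ2
  have hf : ((2 : ℕ) : ℂ) ^ (Nat.card (Subgroup.centralizer ({J} : Set G))).factorization 2 = 4 := by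
    have := h.factorization_centralizer_J P.isPGroup' P.not_dvd_index hm hJ2
    rw [hJ2] at this
    exact_mod_cast this
  have hcent : ∀ t, IsDihPair P J t → centralizer ({J, t} : Set G) =
      centralizer ((P : Subgroup G) : Set G) := by
    intro t ht
    refine le_antisymm (fun g hg y hy => ?_) (centralizer_le ?_)
    · have a1 : J * g = g * J := hg J (by simp)
      have a2 : t * g = g * t := hg t (by simp)
      have a3 : ∀ a ∈ zpowers J, a * g = g * a := fun a ha => by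
        rcases eq_one_or_eq_of_mem_zpowers_of_orderOf_two hJ2 ha with rfl | rfl
        · simp
        · exact a1
      by_cases hy' : y ∈ zpowers J
      · exact a3 y hy'
      · obtain ⟨a, ha, rfl⟩ := ht.exists_eq_mul hy hy'
        rw [mul_assoc, a2, ← mul_assoc, a3 a ha, mul_assoc]
    · rintro x (rfl | rfl)
      · exact hJ
      · exact ht.mem_τ
  rw [hcent τ h, hcent _ (h.of_notMem (mul_mem hJ h.mem_τ) (h.mul_τ_notMem hm)),
    (isClassFunction_secOne 2 J).sum_class_mul_class] at h1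
  have h2 : ∑ χ : IrrCharacter G, ip (secOne 2 J) χ.1 * (χ J * χ J / χ 1) =
      (∑ᶠ χ ∈ principalBlock M G, χ J ^ 3 / χ 1) / 4 := by
    rw [finsum_mem_irr_eq_sum, Finset.sum_filter, Finset.sum_div]
    refine Finset.sum_congr rfl fun χ _ => ?_
    split_ifs with hχ
    · rw [ip_secOne_irr hM hJe hC hχ, hf, h.conj_irr_apply χ hm]; ring
    · rw [ip_secOne_of_notMem hM J hχ]; simp
  rw [h2] at h1
  have h3 : (Nat.card G : ℂ) = Nat.card (centralizer ({J} : Set G)) *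
      (centralizer ({J} : Set G)).index := by exact_mod_cast (card_mul_index _).symm
  have h4 : (Nat.card (centralizer ({J} : Set G)) : ℂ) =
      Nat.card (centralizer ((P : Subgroup G) : Set G)) *
      (centralizer ((P : Subgroup G) : Set G)).relIndex (centralizer ({J} : Set G)) := by
    exact_mod_cast (card_mul_relIndex (centralizer_le (Set.singleton_subset_iff.2 hJ))).symm
  have h5 : ((centralizer ({J} : Set G)).index : ℂ) ≠ 0 := by
    exact_mod_cast (index_pos _).ne'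
  generalize (∑ᶠ χ ∈ principalBlock M G, χ J ^ 3 / χ 1) = S at h1 ⊢
  rw [h3]
  generalize ((centralizer ({J} : Set G)).index : ℂ) = i at h1 h5 ⊢
  rw [h4]
  have h6 : i * S = 8 * ((centralizer ((P : Subgroup G) : Set G)).relIndex
      (centralizer ({J} : Set G)) : ℂ) ^ 2 := by
    apply mul_left_cancel₀ h5
    linear_combination 4 * h1
  linear_combination (Nat.card (centralizer ((P : Subgroup G) : Set G)) : ℂ) ^ 3 *
    ((centralizer ((P : Subgroup G) : Set G)).relIndex (centralizer ({J} : Set G)) : ℂ) * h6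

open Cfsg Subgroup in
theorem deg_rel {G : Type*} [Group G] [Finite G] {M : Ideal AlgInt} (hM : IsPModular 2 M)
    {J : G} (hJ2 : orderOf J = 2) :
    ∑ᶠ χ ∈ principalBlock M G, χ 1 * χ J = 0 := by
  have h := isPBlock_principalBlock.finsum_mul_conj_eq_zero_of_regular (G := G) hM (g := 1) (h := J)
    (by simp) (by rw [hJ2])
  have e : ∀ χ : IrrCharacter G, (starRingEnd ℂ) (χ J) = χ J := fun χ => by
    rw [← χ.apply_inv, inv_eq_of_mul_eq_one_right (mul_self_of_orderOf_eq_two hJ2)]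
  simpa only [e] using h

/-- An order formula from the principal 2-block. Let G be a finite group of order 4·g₀ with g₀ odd having no normal 2-complement (no normal subgroup of order g₀); let P be a Sylow 2-subgroup, J an involution of P, and fix a maximal ideal M of the algebraic integers containing 2. Suppose the principal 2-block consists of the principal character and three further distinct characters χ₁, χ₂, χ₃ of degrees x₁, x₂, x₃, with χ_i(J) = ε_i = ±1. Then, writing c(J) and c(P) for the orders of the centralizers of J and of P, the order of G equals 8·α·c(J)³/c(P)² with α = x₁x₂x₃ / ((x₁ + ε₁)(x₂ + ε₂)(x₃ + ε₃)). -/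
theorem result {G : Type*} [Group G] [Finite G] (M : Ideal Cfsg.AlgInt) (hM : Cfsg.IsPModular 2 M) (g₀ : ℕ) (hg₀ : Odd g₀) (hG : Nat.card G = 4 * g₀) (hnc : ¬ ∃ N : Subgroup G, N.Normal ∧ Nat.card N = g₀) (P : Sylow 2 G) (J : G) (hJ : J ∈ (P : Subgroup G)) (hJ2 : orderOf J = 2) (χ₁ χ₂ χ₃ : Cfsg.IrrCharacter G) (ε₁ ε₂ ε₃ : ℤ) (hB : Cfsg.principalBlock M G = {χ : Cfsg.IrrCharacter G | (χ : G → ℂ) = (fun _ => 1) ∨ χ = χ₁ ∨ χ = χ₂ ∨ χ = χ₃}) (hdist : (χ₁ : G → ℂ) ≠ (fun _ => 1) ∧ (χ₂ : G → ℂ) ≠ (fun _ => 1) ∧ (χ₃ : G → ℂ) ≠ (fun _ => 1) ∧ χ₁ ≠ χ₂ ∧ χ₁ ≠ χ₃ ∧ χ₂ ≠ χ₃) (hε : (ε₁ = 1 ∨ ε₁ = -1) ∧ (ε₂ = 1 ∨ ε₂ = -1) ∧ (ε₃ = 1 ∨ ε₃ = -1)) (hval : (χ₁ : G → ℂ) J = ε₁ ∧ (χ₂ : G → ℂ) J = ε₂ ∧ (χ₃ : G → ℂ) J = ε₃) : (Nat.card G : ℚ) = 8 * (((Cfsg.charDegree (χ₁ : G → ℂ) : ℚ) * Cfsg.charDegree (χ₂ : G → ℂ) * Cfsg.charDegree (χ₃ : G → ℂ)) / ((Cfsg.charDegree (χ₁ : G → ℂ) + ε₁) * (Cfsg.charDegree (χ₂ : G → ℂ) + ε₂) * (Cfsg.charDegree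 (χ₃ : G → ℂ) + ε₃))) * (Nat.card (Subgroup.centralizer ({J} : Set G)) : ℚ) ^ 3 / (Nat.card (Subgroup.centralizer ((P : Subgroup G) : Set G)) : ℚ) ^ 2 := by
  obtain ⟨hP, hn⟩ := setup g₀ hg₀ hG hnc P
  have h1 := count hM P hP hn hJ hJ2
  have h2 := deg_rel (G := G) hM hJ2
  rw [finsum_four hB hdist] at h1 h2
  simp only [IrrCharacter.one_apply, hval.1, hval.2.1, hval.2.2, IrrCharacter.apply_one] at h1 h2
  have p1 := χ₁.charDegree_pos
  have p2 := χ₂.charDegree_pos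
  have p3 := χ₃.charDegree_pos
  have p4 : 0 < Nat.card (Subgroup.centralizer ((P : Subgroup G) : Set G)) := Nat.card_pos
  have p5 : 0 < Nat.card (Subgroup.centralizer ({J} : Set G)) := Nat.card_pos
  generalize charDegree χ₁.1 = x₁ at *
  generalize charDegree χ₂.1 = x₂ at *
  generalize charDegree χ₃.1 = x₃ at *
  generalize Nat.card (Subgroup.centralizer ((P : Subgroup G) : Set G)) = d at *
  generalize Nat.card (Subgroup.centralizer ({J} : Set G)) = c at *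
  generalize Nat.card G = g at *
  have q1 : (g : ℚ) * (d : ℚ) ^ 2 * (1 + ε₁ ^ 3 / x₁ + ε₂ ^ 3 / x₂ + ε₃ ^ 3 / x₃) = 8 * (c : ℚ) ^ 3 := by
    apply Rat.cast_injective (α := ℂ)
    push_cast
    rw [← h1]; simp
  have q2 : (1 : ℚ) + x₁ * ε₁ + x₂ * ε₂ + x₃ * ε₃ = 0 := by
    apply Rat.cast_injective (α := ℂ)
    push_cast
    rw [← h2]; simp
  have r1 : (x₁ : ℚ) ≠ 0 := by positivity
  have r2 : (x₂ : ℚ) ≠ 0 := by positivity
  have r3 : (x₃ : ℚ) ≠ 0 := by positivity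
  have r4 : (d : ℚ) ≠ 0 := by positivity
  have r5 : (c : ℚ) ≠ 0 := by positivity
  have s1 : (ε₁ : ℚ) ^ 2 = 1 := by rcases hε.1 with h | h <;> simp [h]
  have s2 : (ε₂ : ℚ) ^ 2 = 1 := by rcases hε.2.1 with h | h <;> simp [h]
  have s3 : (ε₃ : ℚ) ^ 2 = 1 := by rcases hε.2.2 with h | h <;> simp [h]
  have key : (1 : ℚ) + ε₁ ^ 3 / x₁ + ε₂ ^ 3 / x₂ + ε₃ ^ 3 / x₃ =
      ((x₁ + ε₁) * (x₂ + ε₂) * (x₃ + ε₃)) / (x₁ * x₂ * x₃) := by
    rw [pow_succ, pow_succ (ε₂ : ℚ), pow_succ (ε₃ : ℚ), s1, s2, s3]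
    field_simp
    linear_combination (-(ε₁ : ℚ) * ε₂ * ε₃) * q2 + (x₁ * ε₂ * ε₃) * s1 + (x₂ * ε₁ * ε₃) * s2 +
      (x₃ * ε₁ * ε₂) * s3
  rw [key] at q1
  have hne : ((x₁ : ℚ) + ε₁) * (x₂ + ε₂) * (x₃ + ε₃) ≠ 0 := by
    intro h0
    rw [h0] at q1
    simp [r5] at q1
  have hne1 := left_ne_zero_of_mul (left_ne_zero_of_mul hne)
  have hne2 := right_ne_zero_of_mul (left_ne_zero_of_mul hne)
  have hne3 := right_ne_zero_of_mul hne
  field_simp
  field_simp at q1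
  linear_combination q1

end Cfsg.Agent.S4479
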