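import Cfsg.Statements.S4539
import Cfsg.Agent.Blk.SubBound

set_option autoImplicit false
open Cfsg

namespace Cfsg.Agent.S4539

theorem aux {G H : Type*} [Group G] [Finite G] [Group H] [Finite H] {p : ℕ} [Fact p.Prime]
    {M : Ideal AlgInt} (hM : IsPModular p M) {f : H →* G} {x : G} (h : IsSec p f x)
    {B : Set (IrrCharacter G)} {b : Set (IrrCharacter H)} (hi : Induces M f b B)
    (hd : blockDefect p b = blockDefect p B) (hl : blockRank p b ≤ 2) :
    Nat.card B ≤ p ^ blockDefect p B := by
  classical
  by_cases h1 : ∃ η ∈ regLat p b, (p : ℂ) ^ blockDefect p b * ip η η = (1 : ℕ)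
  · obtain ⟨η, hη, h1⟩ := h1
    exact (card_le_sum_pow_height B).trans ((h.sum_pow_height_le_of_regLat hM hi hd hη h1
      (hM.prime.one_lt.ne' ∘ Nat.dvd_one.1)).trans_eq (mul_one _))
  obtain ⟨n, hx⟩ := h.pElt.exists_pow_succ_eq_one
  have h2 := Finset.card_nsmul_le_sum (Finset.univ.filter (· ∈ B))
    (fun χ => avgC p n f x b χ.1) 2 fun χ hχ =>
      h.le_avgC hM hx hi.left χ.isCharacter.isGen
        (h.subPart_ne_zero_of_major hM hi hd (Finset.mem_filter.1 hχ).2) fun η hη hη0 => by
        obtain ⟨q, hq, hq0⟩ := regLat_exists_nat hη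
        have := hq0 hη0
        have h3 : q ≠ 1 := by rintro rfl; exact h1 ⟨η, hη, hq⟩
        rw [hq, Complex.natCast_re]
        exact_mod_cast (by omega : 2 ≤ q)
  rw [← natCard_eq_card_filter, h.sum_avgC hM hi, hd, nsmul_eq_mul] at h2
  have h3 : Nat.card B * 2 ≤ p ^ blockDefect p B * blockRank p b := by exact_mod_cast h2
  nlinarith [Nat.zero_le (p ^ blockDefect p B)]

/-- Let B be a p-block of the finite group G (relative to a maximal ideal M of the algebraic integers containing p) of defect d with defect group D. Let z be an element of D commuting with every element of D, and let b be a block of the centralizer C of z with defect group D that induces B (a major subsection (z, b)). If b has p-regular rank at most two, then B contains at most p ^ d irreducible characters. -/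
theorem result {G : Type*} [Group G] [Finite G] (p : ℕ) [Fact p.Prime] (M : Ideal Cfsg.AlgInt) (hM : Cfsg.IsPModular p M) (B : Set (Cfsg.IrrCharacter G)) (hB : Cfsg.IsPBlock M B) (D : Subgroup G) (hD : Cfsg.IsDefectGroup p M B D) (z : G) (hzD : z ∈ D) (hzc : ∀ d ∈ D, d * z = z * d) (b : Set (Cfsg.IrrCharacter ↥(Subgroup.centralizer ({z} : Set G)))) (hb : Cfsg.IsInducedBlock M (Subgroup.centralizer ({z} : Set G)) b B) (hbD : Cfsg.IsDefectGroup p M b (D.subgroupOf (Subgroup.centralizer ({z} : Set G)))) (hl : Cfsg.blockRank p b ≤ 2) : Nat.card B ≤ p ^ Cfsg.blockDefect p B := by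
  have hi := (isInducedBlock_iff hM).1 hb
  obtain ⟨h, hd⟩ := hD.major_of_comm hM hB hzD hzc hi.left hbD
  exact aux hM h hi hd hl

end Cfsg.Agent.S4539
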