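import Cfsg.Statements.S4468
import Cfsg.Agent.Char.Winter
import Cfsg.Agent.Char.NavWolf

set_option autoImplicit false
open Cfsg

namespace Cfsg.Agent.S4468

open Subgroup

theorem exists_constituent {G : Type*} [Group G] [Finite G] [hs : Group.IsSolvable G] {p : ℕ}
    [hp : Fact p.Prime] {χ : G → ℂ} (hχ : IsCharacter G χ) (hf : ∀ g : G, χ g = χ 1 → g = 1)
    (P : Sylow p G) (hP : ¬ (P : Subgroup G).Normal) : ∃ ψ : IrrCharacter G, ip χ ψ.1 ≠ 0 ∧
      ∃ q, IsPrimePow q ∧ q ∣ charDegree ψ.1 ∧ (p ∣ q ∨ q ^ 2 ≡ 1 [MOD p]) := by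
  by_contra h
  have h1 : IsPGroup p (pPrimeResidual p G) := fun g => by
    have h1 : ∀ θ : IrrCharacter G, ∃ k, ip χ θ.1 ≠ 0 → (g : G) ^ p ^ k ∈ charKer θ.1 := fun θ => by
      by_cases hθ : ip χ θ.1 ≠ 0
      · obtain ⟨k, hk⟩ := winter_aux p G hs θ (fun q h1 h2 =>
          ⟨fun h3 => h ⟨θ, hθ, q, h1, h2, Or.inl h3⟩, fun h3 => h ⟨θ, hθ, q, h1, h2, Or.inr h3⟩⟩)
          g g.2
        exact ⟨k, fun _ => hk⟩
      · exact ⟨0, fun h => absurd h hθ⟩
    choose k hk using h1
    obtain ⟨K, hK⟩ := Finite.bddAbove_range k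
    refine ⟨K, Subtype.ext (hf _ (hχ.mem_charKer.1 (hχ.mem_charKer_iff_forall.2 fun θ hθ => ?_)))⟩
    obtain ⟨c, hc⟩ := pow_dvd_pow p (hK ⟨θ, rfl⟩)
    rw [Subgroup.coe_pow, hc, pow_mul]
    exact pow_mem (hk θ hθ) _
  refine hP (sylow_normal_of_not_dvd_index_pCore (fun h2 => ?_) P)
  exact not_dvd_index_pPrimeResidual p G (h2.trans (index_dvd_of_le (le_pCore h1)))

theorem exists_solvable {G : Type*} [Group G] [Finite G] {p : ℕ} [hp : Fact p.Prime]
    (hs : IsPSolvable p G) (P : Sylow p G) (hP : ¬ (P : Subgroup G).Normal) :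
    ∃ H : Subgroup G, Group.IsSolvable H ∧ ∃ Q : Sylow p H, ¬ (Q : Subgroup H).Normal := by
  let π := QuotientGroup.mk' (pCore p G)
  have hπ : Function.Surjective π := QuotientGroup.mk'_surjective _
  have hP' : IsPGroup p ((P : Subgroup G).map π) := P.isPGroup'.map π
  have hact : IsCoprimeAction ((P : Subgroup G).map π) (pPrimeCore p (G ⧸ pCore p G)) :=
    isCoprimeAction_of_isPGroup_left le_normalizer_of_normal hP' (not_dvd_card_pPrimeCore p _)
  have hne : ⁅pPrimeCore p (G ⧸ pCore p G), (P : Subgroup G).map π⁆ ≠ ⊥ := fun h => by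
    have h1 := (le_centralizer_iff.1 (commutator_eq_bot_iff_le_centralizer.1 h)).trans
      ((hs.to_quotient _).centralizer_pPrimeCore_le (pCore_quotient_pCore p G))
    have h2 : (P : Subgroup G).map π = ⊥ := by
      rw [← hact.inf_eq_bot, inf_eq_right.2 h1]
    rw [Subgroup.map_eq_bot_iff, QuotientGroup.ker_mk'] at h2
    exact hP ((sylow_normal_iff_eq_pCore P).2 (le_antisymm h2 (pCore_le_sylow P)))
  obtain ⟨q, Q, hq, h1, h2, -, h3, h4⟩ := hact.exists_isPGroup hne
  have := Fact.mk hq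
  have hle : (P : Subgroup G) ≤ (Q ⊔ (P : Subgroup G).map π).comap π :=
    (le_comap_map π _).trans (comap_mono le_sup_right)
  refine ⟨(Q ⊔ (P : Subgroup G).map π).comap π, ?_, P.subtype hle, fun hn => h4 ?_⟩
  · have := isSolvable_of_isPGroup h2
    have := isSolvable_of_isPGroup hP'
    have := isSolvable_of_isPGroup (isPGroup_pCore p G)
    have := isSolvable_sup_of_le_normalizer h3
    rw [sup_comm]
    exact isSolvable_comap_mk' _ _
  · rw [eq_bot_iff, ← (hact.mono_right h1 h3).inf_eq_bot]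
    refine le_inf (le_normalizer_iff_commutator_le_left.1 h3)
      (le_normalizer_iff_commutator_le_right.1 ?_)
    rw [Sylow.coe_subtype, normal_subgroupOf_iff_le_normalizer hle] at hn
    have := (map_mono hn (f := π)).trans (le_normalizer_map π)
    rw [map_comap_eq_self_of_surjective hπ] at this
    exact le_sup_left.trans this

/-- Let the finite p-solvable group G have a faithful character χ of degree n ≤ p − 1 and suppose that a Sylow p-subgroup of G is not normal. Then n = p − 1, n is a power of 2, and χ is irreducible. -/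
theorem result {G : Type*} [Group G] [Finite G] (χ : G → ℂ) (hχ : Cfsg.IsCharacter G χ) (hfaith : ∀ g : G, χ g = χ 1 → g = 1) (n : ℕ) (hn : Cfsg.charDegree χ = n) (p : ℕ) (hp : p.Prime) (hsolv : Cfsg.IsPSolvable p G) (hnp : n + 1 ≤ p) (P : Sylow p G) (hP : ¬ (P : Subgroup G).Normal) : n + 1 = p ∧ (∃ k : ℕ, n = 2 ^ k) ∧ Cfsg.IsIrrCharacter G χ := by
  have := Fact.mk hp
  subst hn
  obtain ⟨H, hH, Q, hQ⟩ := exists_solvable hsolv P hP
  obtain ⟨ψ, hψ, q, h1, h2, h3⟩ := exists_constituent (hχ.comp H.subtype)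
    (IsCharacter.comp_faithful hfaith H.subtype_injective) Q hQ
  have h4 : charDegree ψ.1 ≤ charDegree χ := LiesOver.charDegree_le (f := H.subtype) hχ hψ
  have h5 := Nat.le_of_dvd ψ.charDegree_pos h2
  have h6 := h1.one_lt
  have h7 : q + 1 = p := by
    rcases h3 with h3 | h3
    · have := Nat.le_of_dvd (by omega) h3
      omega
    · have h4 : p ∣ (q + 1) * (q - 1) := by
        rw [← Nat.sq_sub_sq, one_pow]
        exact (Nat.modEq_iff_dvd' (Nat.one_le_pow _ _ (by omega))).1 h3.symm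
      rcases (Nat.Prime.dvd_mul hp).1 h4 with h | h
      · have := Nat.le_of_dvd (by omega) h
        omega
      · have := Nat.le_of_dvd (by omega) h
        omega
  have h8 : charDegree χ = q := by omega
  refine ⟨by omega, ?_, ?_⟩
  · obtain ⟨r, k, hr, hk, rfl⟩ := (isPrimePow_nat_iff q).1 h1
    have h9 : 2 ∣ r ^ k := by
      have := hp.eq_two_or_odd
      omega
    rw [h8, (Nat.prime_dvd_prime_iff_eq Nat.prime_two hr).1 (Nat.prime_two.dvd_of_dvd_pow h9)]
    exact ⟨k, rfl⟩
  · have := LiesOver.comp_eq_of_charDegree_le (f := H.subtype) hχ hψ (by omega)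
    exact hχ.isIrr_of_comp H.subtype (this ▸ ψ.2)

end Cfsg.Agent.S4468
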