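import Cfsg.Statements.S4541
import Cfsg.Agent.Blk.SubBound

set_option autoImplicit false
open Cfsg

namespace Cfsg.Agent.S4541

theorem aux {G H : Type*} [Group G] [Finite G] [Group H] [Finite H]
    {M : Ideal AlgInt} (hM : IsPModular 2 M) {f : H →* G} {x : G} (h : IsSec 2 f x)
    {B : Set (IrrCharacter G)} {b : Set (IrrCharacter H)} (hi : Induces M f b B) :
    (Odd (Nat.sqrt (blockRank 2 b)) →
      Nat.card {χ : IrrCharacter G // χ ∈ B ∧ blockHeight 2 B χ.1 = 0} ≤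
        Nat.sqrt (blockRank 2 b) * 2 ^ blockDefect 2 b) ∧ (¬ Odd (Nat.sqrt (blockRank 2 b)) →
      (Nat.sqrt (blockRank 2 b) + 1) * Nat.card {χ : IrrCharacter G // χ ∈ B ∧
        blockHeight 2 B χ.1 = 0} ≤ blockRank 2 b * 2 ^ blockDefect 2 b) := by
  classical
  obtain ⟨n, hx⟩ := h.pElt.exists_pow_succ_eq_one
  set k := Nat.card {χ : IrrCharacter G // χ ∈ B ∧ blockHeight 2 B χ.1 = 0} with hk
  obtain ⟨χ₀, hχ₀⟩ := exists_blockHeight_eq_zero (p := 2) (hi.right.nonempty hM)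
  obtain ⟨χ, hχ, hmin⟩ := Finset.exists_min_image (Finset.univ.filter fun χ : IrrCharacter G =>
    χ ∈ B ∧ blockHeight 2 B χ.1 = 0) (fun χ => avgC 2 n f x b χ.1) ⟨χ₀, by simpa using hχ₀⟩
  obtain ⟨hχB, h0⟩ := (Finset.mem_filter.1 hχ).2
  obtain ⟨N, hN, hodd⟩ := h.exists_avgC_odd hM hx hi hχB h0
  have h1 := h.card_height_zero_le hM hx hi hχB h0
  have h2 := (Finset.card_nsmul_le_sum _ _ _ hmin).trans (Finset.sum_le_sum_of_subset_of_nonneg
    (t := Finset.univ.filter (· ∈ B)) (fun ψ hψ => by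
      simpa using (Finset.mem_filter.1 hψ).2.1) fun ψ _ _ =>
        h.avgC_nonneg hM hi.left ψ.isClassFunction)
  rw [h.sum_avgC hM hi, ← Fintype.card_subtype, ← Nat.card_eq_fintype_card, ← hk, hN,
    nsmul_eq_mul] at h2
  rw [hN, ← hk] at h1
  have h3 : k ≤ 2 ^ blockDefect 2 b * N := by exact_mod_cast h1
  have h4 : k * N ≤ 2 ^ blockDefect 2 b * blockRank 2 b := by exact_mod_cast h2
  have h5 := Nat.sqrt_le (blockRank 2 b)
  have h6 := Nat.lt_succ_sqrt (blockRank 2 b)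
  generalize Nat.sqrt (blockRank 2 b) = s at *
  generalize blockRank 2 b = l at *
  generalize 2 ^ blockDefect 2 b = q at *
  obtain ⟨N, rfl⟩ := hodd
  simp only [Nat.succ_eq_add_one] at h6
  refine ⟨fun hs => ?_, fun hs => ?_⟩
  · obtain ⟨s, rfl⟩ := hs
    rcases le_or_gt N s with h7 | h7
    · nlinarith
    · refine Nat.le_of_mul_le_mul_right (c := 2 * s + 3) ?_ (by omega)
      have h8 : q * l ≤ q * ((2 * s + 1) * (2 * s + 3)) := Nat.mul_le_mul_left _ (by nlinarith)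
      nlinarith
  · obtain ⟨s, rfl⟩ := Nat.not_odd_iff_even.1 hs
    rcases le_or_gt s N with h7 | h7
    · nlinarith
    · have h8 : (s + s + 1) * (2 * N + 1) ≤ l := by nlinarith
      nlinarith [Nat.mul_le_mul_left (s + s + 1) h3, Nat.mul_le_mul_left q h8]

/-- Let B be a 2-block of the finite group G (relative to a maximal ideal M of the algebraic integers containing 2), u a 2-element, and b a block of the centralizer of u inducing B (a subsection (u, b)), of defect q and 2-regular rank l; write s for the integer square root of l and k₀(B) for the number of members of B of height zero. If s is odd then k₀(B) ≤ s·2 ^ q, and otherwise (s + 1)·k₀(B) ≤ l·2 ^ q; in particular k₀(B) ≤ 2 ^ q when l ≤ 3. -/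
theorem result {G : Type*} [Group G] [Finite G] (M : Ideal Cfsg.AlgInt) (hM : Cfsg.IsPModular 2 M) (B : Set (Cfsg.IrrCharacter G)) (hB : Cfsg.IsPBlock M B) (u : G) (hu : ∃ j : ℕ, orderOf u = 2 ^ j) (b : Set (Cfsg.IrrCharacter ↥(Subgroup.centralizer ({u} : Set G)))) (hb : Cfsg.IsInducedBlock M (Subgroup.centralizer ({u} : Set G)) b B) : (Odd (Nat.sqrt (Cfsg.blockRank 2 b)) → Nat.card {χ : Cfsg.IrrCharacter G // χ ∈ B ∧ Cfsg.blockHeight 2 B (χ : G → ℂ) = 0} ≤ Nat.sqrt (Cfsg.blockRank 2 b) * 2 ^ Cfsg.blockDefect 2 b) ∧ (¬ Odd (Nat.sqrt (Cfsg.blockRank 2 b)) → (Nat.sqrt (Cfsg.blockRank 2 b) + 1) * Nat.card {χ : Cfsg.IrrCharacter G // χ ∈ B ∧ Cfsg.blockHeight 2 B (χ : G → ℂ) = 0} ≤ Cfsg.blockRank 2 b * 2 ^ Cfsg.blockDefect 2 b) ∧ (Cfsg.blockRank 2 b ≤ 3 → Nat.card {χ : Cfsg.IrrCharacter G // χ ∈ B ∧ Cfsg.blockHeight 2 B (χ : G → ℂ) = 0} ≤ 2 ^ Cfsg.blockDefect 2 b) := by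
  obtain ⟨h1, h2⟩ := aux hM (isSec_centralizer hu) ((isInducedBlock_iff hM).1 hb)
  refine ⟨h1, h2, fun hl => ?_⟩
  have := ((isInducedBlock_iff hM).1 hb).left.blockRank_pos hM
  have hs : Nat.sqrt (blockRank 2 b) = 1 := by
    symm; rw [Nat.eq_sqrt]; omega
  rw [hs, one_mul] at h1
  exact h1 odd_one

end Cfsg.Agent.S4541
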