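import Cfsg.Statements.S4721
import Cfsg.Agent.Blk.FrobPrin
-- import your own Cfsg.Agent.* helpers here

set_option autoImplicit false
open Cfsg

namespace Cfsg.Agent.S4721

section Aux

theorem arith1 {na nb nc ya yb yc : ℤ} (h1 : 0 < na) (h2 : 0 < nb) (hy : 0 < ya)
    (e1 : nc = 1 + na + nb) (e2 : yc = ya + yb)
    (e3 : yc ^ 2 * na * nb = nc * (ya ^ 2 * nb + yb ^ 2 * na)) : False := by
  subst e1 e2
  have : 0 < ya ^ 2 * nb := by positivity
  have : 0 ≤ yb ^ 2 * na := by positivity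
  nlinarith [sq_nonneg (ya * nb - yb * na)]

theorem arith2 {na nb nc : ℕ} {ya yb yc : ℤ} (hy : 0 < yc)
    (e1 : (1 : ℤ) + na = nb + nc) (e2 : ya = yb + yc)
    (e3 : ya ^ 2 * nb * nc = na * (yb ^ 2 * nc + yc ^ 2 * nb)) : IsSquare (na * nb * nc) := by
  subst e2
  have h : ((nc : ℤ) * (nb - na) * yb + nb * nc * yc) ^ 2 = na * nb * nc * yc ^ 2 := by
    linear_combination (nc * (nb - na)) * e3 - (na * nb * nc * yc ^ 2) * e1
  rw [← Rat.isSquare_natCast_iff]
  refine ⟨(((nc : ℤ) * (nb - na) * yb + nb * nc * yc : ℤ) : ℚ) / yc, ?_⟩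
  have hy' : (yc : ℚ) ≠ 0 := by exact_mod_cast hy.ne'
  field_simp
  exact_mod_cast h.symm

theorem arith {n₂ n₃ n₄ : ℕ} {s₂ s₃ s₄ x₂ x₃ x₄ : ℤ} (h₂ : 0 < n₂) (h₃ : 0 < n₃) (h₄ : 0 < n₄)
    (hs₂ : s₂ = 1 ∨ s₂ = -1) (hs₃ : s₃ = 1 ∨ s₃ = -1) (hs₄ : s₄ = 1 ∨ s₄ = -1)
    (hx₂ : x₂ < n₂) (hx₃ : x₃ < n₃) (hx₄ : x₄ < n₄)
    (e1 : 1 + s₂ * n₂ + s₃ * n₃ + s₄ * n₄ = 0) (e2 : 1 + s₂ * x₂ + s₃ * x₃ + s₄ * x₄ = 0)
    (e3 : n₂ * n₃ * n₄ + s₂ * x₂ ^ 2 * n₃ * n₄ + s₃ * x₃ ^ 2 * n₂ * n₄ +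
      s₄ * x₄ ^ 2 * n₂ * n₃ = 0) :
    (if s₂ = -1 then 1 else 0) + (if s₃ = -1 then 1 else 0) + (if s₄ = -1 then 1 else 0) = 2 ∧
      IsSquare (n₄ * (n₂ * n₃)) := by
  have e4 : s₂ * (n₂ - x₂) + s₃ * (n₃ - x₃) + s₄ * (n₄ - x₄) = 0 := by linear_combination e1 - e2
  have e5 : s₂ * (n₂ - x₂) ^ 2 * n₃ * n₄ + s₃ * (n₃ - x₃) ^ 2 * n₂ * n₄ +
      s₄ * (n₄ - x₄) ^ 2 * n₂ * n₃ = 0 := by
    linear_combination e3 + (n₂ * n₃ * n₄) * e1 - 2 * (n₂ * n₃ * n₄) * e2
  have y₂ : 0 < n₂ - x₂ := by omega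
  have y₃ : 0 < n₃ - x₃ := by omega
  have y₄ : 0 < n₄ - x₄ := by omega
  generalize n₂ - x₂ = z₂ at *
  generalize n₃ - x₃ = z₃ at *
  generalize n₄ - x₄ = z₄ at *
  have p₂ : (0 : ℤ) < n₂ := by exact_mod_cast h₂
  have p₃ : (0 : ℤ) < n₃ := by exact_mod_cast h₃
  have p₄ : (0 : ℤ) < n₄ := by exact_mod_cast h₄
  rcases hs₂ with rfl | rfl <;> rcases hs₃ with rfl | rfl <;> rcases hs₄ with rfl | rfl
  · omega
  · exact (arith1 (nc := n₄) (yb := z₃) (yc := z₄) p₂ p₃ y₂ (by omega) (by omega)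
      (by linear_combination -e5)).elim
  · exact (arith1 (nc := n₃) (yb := z₄) (yc := z₃) p₂ p₄ y₂ (by omega) (by omega)
      (by linear_combination -e5)).elim
  · refine ⟨by simp, ?_⟩
    have := arith2 (na := n₂) (nb := n₃) (nc := n₄) (ya := z₂) (yb := z₃) y₄ (by omega) (by omega)
      (by linear_combination e5)
    rwa [mul_comm] at this
  · exact (arith1 (nc := n₂) (yb := z₄) (yc := z₂) p₃ p₄ y₃ (by omega) (by omega)
      (by linear_combination -e5)).elim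
  · refine ⟨by simp, ?_⟩
    have := arith2 (na := n₃) (nb := n₂) (nc := n₄) (ya := z₃) (yb := z₂) y₄ (by omega) (by omega)
      (by linear_combination e5)
    rwa [mul_comm, mul_comm n₃] at this
  · refine ⟨by simp, ?_⟩
    have := arith2 (na := n₄) (nb := n₂) (nc := n₃) (ya := z₄) (yb := z₂) y₃ (by omega) (by omega)
      (by linear_combination e5)
    rwa [mul_assoc] at this
  · omega

theorem descent (k : ℕ) : ∀ (N s t : ℤ), s.natAbs + t.natAbs ≤ k →
    2 * (s ^ 2 - s * t + t ^ 2) + 2 * N * (s * t * (s + t)) = 0 → s = 0 := by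
  induction k with
  | zero => intro N s t h _; omega
  | succ k ih =>
    intro N s t h e
    by_cases h0 : s = 0
    · exact h0
    have hs : Even s ∧ Even t := by
      have e' : s ^ 2 - s * t + t ^ 2 + N * (s * t * (s + t)) = 0 := by linarith
      have key : ∀ s t N : ZMod 2, s ^ 2 - s * t + t ^ 2 + N * (s * t * (s + t)) = 0 →
          s = 0 ∧ t = 0 := by decide
      have := key s t N (by exact_mod_cast congrArg (Int.cast : ℤ → ZMod 2) e')
      exact ⟨ZMod.intCast_eq_zero_iff_even.1 this.1, ZMod.intCast_eq_zero_iff_even.1 this.2⟩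
    obtain ⟨⟨a, rfl⟩, ⟨b, rfl⟩⟩ := hs
    have := ih (2 * N) a b (by omega) (mul_left_cancel₀ four_ne_zero (by linear_combination e))
    omega

theorem arith_two {x y : ℤ} (hx : Odd x) (hy : Odd y)
    (e : (1 + x + y) * (x * y + x + y) = 9 * x * y) : x = 1 := by
  obtain ⟨s, rfl⟩ := hx
  obtain ⟨t, rfl⟩ := hy
  have := descent _ 1 s t le_rfl (mul_left_cancel₀ four_ne_zero (by linear_combination e))
  omega

theorem conj_pPart_of_invol {G : Type*} [Group G] [Finite G] (p : ℕ) [Fact p.Prime] {x y : G}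
    (hx : x * x = 1) (hy : y * y = 1) :
    x * pPart p (x * y) * x⁻¹ = (pPart p (x * y))⁻¹ := by
  rw [← pPart_conj, ← pPart_inv]
  congr 1
  rw [mul_inv_rev, inv_eq_of_mul_eq_one_right hx, inv_eq_of_mul_eq_one_right hy, ← mul_assoc, hx,
    one_mul]

theorem isConj_mul_of_odd {G : Type*} [Group G] [Finite G] {v w : G} (hw : Odd (orderOf w))
    (h : v * w * v⁻¹ = w⁻¹) : IsConj v (v * w) := by
  obtain ⟨k, hk⟩ := hw
  have h1 : v * w ^ k * v⁻¹ = (w ^ k)⁻¹ := by rw [← conj_pow, h, inv_pow]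
  have h2 : w ^ (2 * k + 1) = 1 := by rw [← hk, pow_orderOf_eq_one]
  refine isConj_iff.2 ⟨w ^ k, ?_⟩
  have h3 : w ^ k * v = v * (w ^ k)⁻¹ := by
    have : v * (w ^ k)⁻¹ * v⁻¹ = w ^ k := by rw [← conj_inv, h1, inv_inv]
    conv_lhs => rw [← this]
    group
  rw [h3, mul_assoc]
  congr 1
  rw [← mul_inv_rev, inv_eq_iff_mul_eq_one, ← h2]
  group

open Cfsg.Exc
open scoped Classical ComplexConjugate

theorem finsum_eq_zero_of_no_product {G : Type*} [Group G] [Finite G] {p : ℕ} {M : Ideal AlgInt}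
    {B : Set (IrrCharacter G)} {A : Type*} [Group A] [Fintype A] {E : Subgroup (MulAut A)}
    {S : A → G → ℂ} (h : ExcSys p M B E S) {t : G} (ht : t ^ 2 = 1) {u : A} (hu : u ≠ 1)
    (h0 : ∀ x y, IsConj t x → IsConj t y → S u (x * y) = 0) :
    ∑ᶠ χ ∈ B, (χ t * χ t / χ 1) * excDec S χ.1 u = 0 := by
  let _ := Fintype.ofFinite G
  have h1 := (h.cf u).sum_class_mul_class t t
  rw [Finset.sum_eq_zero fun x hx => Finset.sum_eq_zero fun y hy =>
    h0 x y (Finset.mem_filter.1 hx).2 (Finset.mem_filter.1 hy).2] at h1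
  have hi : ((Subgroup.centralizer ({t} : Set G)).index : ℂ) ≠ 0 := by
    exact_mod_cast Subgroup.index_ne_zero_of_finite
  have h2 := (mul_eq_zero.1 h1.symm).resolve_left (mul_ne_zero hi hi)
  have h3 := congrArg (fun z => (Nat.card A : ℂ) * conj z) h2
  simp only [map_sum, map_mul, map_zero, mul_zero, Finset.mul_sum, conj_ip] at h3
  rw [finsum_mem_irr_eq_sum, Finset.sum_filter]
  refine Eq.trans (Finset.sum_congr rfl fun χ _ => ?_) h3
  split_ifs with hχ
  · obtain ⟨m, hm, -⟩ := χ.isCharacter.exists_int_of_sq_eq_one ht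
    rw [excDec, hm, χ.isCharacter.apply_one]
    simp only [map_div₀, map_mul, map_intCast, map_natCast]
    ring
  · rw [← conj_ip (S u) χ.1, (blockPart_eq_self_iff (h.cf u)).1 (h.part u hu) χ hχ, map_zero,
      zero_mul, mul_zero]

theorem odd_case {G : Type*} [Group G] [Finite G] {p : ℕ} [Fact p.Prime] (hp : p ≠ 2)
    (P : Sylow p G) (hab : (P : Subgroup G) ≤ Subgroup.centralizer ((P : Subgroup G) : Set G))
    (E : Subgroup (MulAut (P : Subgroup G)))
    (hE : E = autOf (P : Subgroup G).subtype (Subgroup.normalizer ((P : Subgroup G) : Set G)))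
    (hfree : IsFree E) (hodd : Odd (Nat.card E)) {u : (P : Subgroup G)} (hu : u ≠ 1) {x y : G}
    (hx : x * x = 1) (hy : y * y = 1) : x * y ∉ pSection p (u : G) := by
  intro h
  rw [mem_pSection] at h
  have h1 : IsConj (pPart p (x * y)) (pPart p (x * y))⁻¹ :=
    isConj_iff.2 ⟨x, conj_pPart_of_invol p hx hy⟩
  have h2 : IsConj (u : G) (u : G)⁻¹ := by
    obtain ⟨g, hg⟩ := isConj_iff.1 h
    exact h.symm.trans (h1.trans (isConj_iff.2 ⟨g, by rw [← hg]; group⟩))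
  obtain ⟨g, e⟩ := isConj_iff.1 h2
  obtain ⟨n, hn, e'⟩ := exists_mem_normalizer_conj_eq P (hab u.2) (g := g)
    (e ▸ hab (inv_mem u.2))
  obtain ⟨σ, hσ, e2⟩ := (exists_autOf_apply_iff (P : Subgroup G).subtype_injective
    (by rw [Subgroup.range_subtype]) (u := u) (v := u⁻¹)).2 ⟨n, hn, (e'.trans e).symm⟩
  rw [← hE] at hσ
  have h3 := hfree (σ ^ 2) (E.pow_mem hσ 2) u hu (by simp [pow_two, e2])
  have h4 : (⟨σ, hσ⟩ : E) ^ 2 = 1 := Subtype.ext h3
  have h5 : orderOf (⟨σ, hσ⟩ : E) = 1 := Nat.eq_one_of_dvd_coprimes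
    (Nat.coprime_two_left.2 hodd) (orderOf_dvd_of_pow_eq_one h4) (orderOf_dvd_natCard _)
  have h6 : σ = 1 := congrArg Subtype.val (orderOf_eq_one_iff.1 h5)
  rw [h6, MulAut.one_apply] at e2
  have h7 : u ^ 2 = 1 := by rw [pow_two]; nth_rw 1 [e2]; simp
  obtain ⟨k, hk⟩ := IsPGroup.iff_orderOf.1 P.isPGroup' u
  have h8 := orderOf_dvd_of_pow_eq_one h7
  rcases (Nat.dvd_prime Nat.prime_two).1 h8 with e | e
  · exact hu (orderOf_eq_one_iff.1 e)
  · rw [e] at hk
    exact hp ((Nat.prime_dvd_prime_iff_eq Nat.prime_two Fact.out).1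
      (Nat.prime_two.dvd_of_dvd_pow (dvd_of_eq hk))).symm

theorem even_case {G : Type*} [Group G] [Finite G] (P : Sylow 2 G)
    (L : Subgroup (P : Subgroup G)) {t : G} (ht : t * t = 1)
    (hL : ∀ v : (P : Subgroup G), IsConj t v → v ∈ L)
    (hL' : ∀ v w : (P : Subgroup G), v ∈ L → IsConj (v : G) w → w ∈ L)
    {u : (P : Subgroup G)} {x y : G} (hx : IsConj t x) (hy : IsConj t y)
    (h : x * y ∈ pSection 2 (u : G)) : u ∈ L := by
  have hsq : ∀ x, IsConj t x → x * x = 1 := fun x hx => by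
    obtain ⟨g, rfl⟩ := isConj_iff.1 hx
    rw [conj_mul, ht]; simp
  have hx2 := hsq x hx
  have hy2 := hsq y hy
  rw [mem_pSection] at h
  set z := pPart 2 (x * y) with hz
  set w := pPrimePart 2 (x * y) with hw
  have h1 : x * z * x⁻¹ = z⁻¹ := conj_pPart_of_invol 2 hx2 hy2
  have h2 : x * w * x⁻¹ = w⁻¹ := by
    rw [hw, ← pPrimePart_conj, ← pPrimePart_inv]
    congr 1
    rw [mul_inv_rev, inv_eq_of_mul_eq_one_right hx2, inv_eq_of_mul_eq_one_right hy2, ← mul_assoc,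
      hx2, one_mul]
  have hzw : Commute z w := commute_pPart_pPrimePart _ _
  have h3 : IsConj (x * z) y := by
    have e : y = x * z * w := by
      rw [mul_assoc, hz, hw, pPart_mul_pPrimePart, ← mul_assoc, hx2, one_mul]
    rw [e]
    apply isConj_mul_of_odd
    · exact Nat.odd_iff.2 (Nat.two_dvd_ne_zero.1 (isPRegular_pPrimePart (p := 2) (x * y)))
    · rw [← h2]
      have : z * w * z⁻¹ = w := by rw [hzw.eq]; simp
      conv_rhs => rw [← this]
      group
  have hxp : IsPGroup 2 (Subgroup.zpowers x) := isPElt_iff_isPGroup_zpowers.1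
    (isPElt_iff_pow_eq_one.2 ⟨1, by simpa [pow_two] using hx2⟩)
  have hzp : IsPGroup 2 (Subgroup.zpowers z) := isPElt_iff_isPGroup_zpowers.1 (isPElt_pPart _ _)
  have hn : Subgroup.zpowers x ≤ Subgroup.normalizer (Subgroup.zpowers z : Set G) := by
    rw [Subgroup.zpowers_le, Subgroup.mem_normalizer_iff_map_conj_eq, MonoidHom.map_zpowers]
    simp only [MonoidHom.coe_coe, MulAut.conj_apply, h1, Subgroup.zpowers_inv]
  obtain ⟨Q, hQ⟩ := (IsPGroup.to_sup_of_normal_right' hxp hzp hn).exists_le_sylow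
  obtain ⟨g, hg⟩ := MulAction.exists_smul_eq G Q P
  have hmem : ∀ a ∈ (Q : Subgroup G), g * a * g⁻¹ ∈ (P : Subgroup G) := fun a ha => by
    rw [← hg, Sylow.coe_subgroup_smul]
    exact Subgroup.smul_mem_pointwise_smul _ _ _ ha
  have m1 := hmem x (hQ (Subgroup.mem_sup_left (Subgroup.mem_zpowers x)))
  have m2 := hmem z (hQ (Subgroup.mem_sup_right (Subgroup.mem_zpowers z)))
  have l1 := hL ⟨_, m1⟩ (hx.trans (isConj_iff.2 ⟨g, rfl⟩))
  have l2 := hL (⟨_, m1⟩ * ⟨_, m2⟩) ((hy.trans h3.symm).trans (isConj_iff.2 ⟨g, by simp⟩))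
  exact hL' ⟨_, m2⟩ u ((L.mul_mem_cancel_left l1).1 l2) ((isConj_iff.2 ⟨g, rfl⟩).symm.trans h)

theorem exists_linear {A : Type*} [Group A] [Fintype A] (hA : ∀ a b : A, a * b = b * a)
    (h2 : IsPGroup 2 A) (h4 : 4 < Nat.card A) (E : Subgroup (MulAut A)) (hE : Nat.card E = 3)
    (hd : 3 ∣ Nat.card A - 1) {t : A} (ht : t * t = 1) :
    ∃ lam : A →* ℂˣ, lam ≠ 1 ∧ ∀ σ ∈ E, lam (σ t) = 1 := by
  let _ := Fintype.ofFinite E
  let H : E → Subgroup A := fun σ => Subgroup.zpowers (σ.1 t)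
  have hc : Pairwise fun i j : E => ∀ x y : A, x ∈ H i → y ∈ H j → Commute x y :=
    fun _ _ _ x y _ _ => hA x y
  have h1 : Nat.card (Subgroup.noncommPiCoprod hc).range ≤ 8 := by
    refine (Nat.card_le_card_of_surjective _
      (Subgroup.noncommPiCoprod hc).rangeRestrict_surjective).trans ?_
    rw [Nat.card_pi]
    refine (Finset.prod_le_pow_card _ _ 2 fun σ _ => ?_).trans ?_
    · rw [Nat.card_zpowers]
      exact Nat.le_of_dvd two_pos (orderOf_dvd_of_pow_eq_one (by rw [pow_two, ← map_mul, ht]; simp))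
    · rw [Finset.card_univ, ← Nat.card_eq_fintype_card, hE]; norm_num
  have h3 : (Subgroup.noncommPiCoprod hc).range ≠ ⊤ := by
    intro e
    rw [e, Subgroup.card_top] at h1
    obtain ⟨n, hn⟩ := IsPGroup.iff_card.1 h2
    rw [hn] at h1 h4 hd
    have : n ≤ 3 := (Nat.pow_le_pow_iff_right one_lt_two).1 h1
    interval_cases n <;> omega
  obtain ⟨g, hg⟩ : ∃ g, g ∉ (Subgroup.noncommPiCoprod hc).range := by
    by_contra hn
    push Not at hn
    exact h3 ((Subgroup.eq_top_iff' _).2 hn)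
  have hcomm : commutator A ≤ (Subgroup.noncommPiCoprod hc).range := by
    have : commutator A = ⊥ := by
      rw [commutator_def, Subgroup.commutator_eq_bot_iff_le_centralizer]
      intro a _ b _
      exact hA b a
    rw [this]; exact bot_le
  obtain ⟨lam, h5, h6⟩ := exists_linear_ne_one hcomm hg
  refine ⟨lam, fun e => h6 (by simp [e]), fun σ hσ => h5 _ ?_⟩
  rw [Subgroup.noncommPiCoprod_range]
  exact Subgroup.mem_iSup_of_mem (⟨σ, hσ⟩ : E) (Subgroup.mem_zpowers _)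

theorem last_part {G : Type*} [Group G] [Finite G] (p : ℕ) [Fact p.Prime] (M : Ideal AlgInt)
    (hM : IsPModular p M) (P : Sylow p G) [Fintype P]
    (hab : (P : Subgroup G) ≤ Subgroup.centralizer ((P : Subgroup G) : Set G))
    (hfree : ∀ y ∈ (P : Subgroup G), y ≠ 1 → Subgroup.centralizer ({y} : Set G) ⊓
      Subgroup.normalizer ((P : Subgroup G) : Set G) ≤
      Subgroup.centralizer ((P : Subgroup G) : Set G))
    (E : Subgroup (MulAut (P : Subgroup G)))
    (hE : E = autOf (P : Subgroup G).subtype (Subgroup.normalizer ((P : Subgroup G) : Set G)))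
    (h : ExcSys p M (principalBlock M G) E (fun u : (P : Subgroup G) => secOne p (u : G)))
    (hE3 : Nat.card E = 3) (hm2 : 3 + 1 < Nat.card P) {X Y : Set (IrrCharacter G)} {δ : ℤ}
    {ζ : ((P : Subgroup G) →* ℂˣ) → IrrCharacter G} {a : IrrCharacter G → ℤ}
    (o : ExcOut p (principalBlock M G) E (fun u : (P : Subgroup G) => secOne p (u : G)) X Y δ 0 ζ a)
    (ha : ∀ χ ∈ X, a χ = 1 ∨ a χ = -1) {χ₂ χ₃ : IrrCharacter G}
    (hX : X = {IrrCharacter.one G, χ₂, χ₃}) (h12 : IrrCharacter.one G ≠ χ₂)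
    (h13 : IrrCharacter.one G ≠ χ₃) (h23 : χ₂ ≠ χ₃) {t : G} (ht : orderOf t = 2)
    (htK : ∀ K : Subgroup G, K.Normal → t ∈ K → K = ⊤) {η : IrrCharacter G} (hη : η ∈ Y) :
    (if a χ₂ = -1 then 1 else 0) + (if a χ₃ = -1 then 1 else 0) + (if -δ = -1 then 1 else 0) = 2 ∧
      IsSquare (charDegree η.1 * (charDegree χ₂.1 * charDegree χ₃.1)) := by
  have ht2 : t ^ 2 = 1 := by rw [← ht, pow_orderOf_eq_one]
  have htt : t * t = 1 := by rwa [← pow_two]
  have m1 : IrrCharacter.one G ∈ X := by simp [hX]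
  have m2 : χ₂ ∈ X := by simp [hX]
  have m3 : χ₃ ∈ X := by simp [hX]
  obtain ⟨u₀, hu₀⟩ := h.nontriv
  have a1 : a (IrrCharacter.one G) = 1 := by
    have := o.nonexc _ m1 u₀ hu₀
    rw [excDec_principal hM hab hfree (o.X_subset m1) hu₀, IrrCharacter.one_apply] at this
    exact_mod_cast this.symm
  have hsum : ∀ c : IrrCharacter G → ℂ, ∑ᶠ χ ∈ X, (a χ : ℂ) * c χ =
      c (IrrCharacter.one G) + a χ₂ * c χ₂ + a χ₃ * c χ₃ := by
    intro c
    rw [hX, finsum_mem_insert _ (by simp [h12, h13]) (Set.toFinite _), finsum_mem_pair h23, a1]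
    push_cast; ring
  have hker : ∀ χ : IrrCharacter G, χ ≠ IrrCharacter.one G → χ t ≠ χ 1 := fun χ h1 e =>
    h1 (χ.charKer_eq_top_iff.1 (htK _ inferInstance (χ.mem_charKer.2 e)))
  have hη1 : η ≠ IrrCharacter.one G := fun e => Set.disjoint_left.1 o.disj m1 (e ▸ hη)
  have e1 := o.reg_rel η hη 1 isPRegular_one
  rw [hsum (fun χ => χ 1)] at e1
  simp only [IrrCharacter.one_apply, χ₂.isCharacter.apply_one, χ₃.isCharacter.apply_one,
    η.isCharacter.apply_one] at e1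
  have n₂ : (charDegree χ₂.1 : ℂ) ≠ 0 := by exact_mod_cast χ₂.charDegree_pos.ne'
  have n₃ : (charDegree χ₃.1 : ℂ) ≠ 0 := by exact_mod_cast χ₃.charDegree_pos.ne'
  have n₄ : (charDegree η.1 : ℂ) ≠ 0 := by exact_mod_cast η.charDegree_pos.ne'
  obtain ⟨x₂, v₂, c₂, b₂⟩ := χ₂.isCharacter.exists_int_of_sq_eq_one ht2
  obtain ⟨x₃, v₃, c₃, b₃⟩ := χ₃.isCharacter.exists_int_of_sq_eq_one ht2
  by_cases hp : p = 2
  · exfalso
    subst hp
    obtain ⟨g, hg⟩ := (isPElt_iff_pow_eq_one.2 ⟨1, ht2⟩ : IsPElt 2 t).exists_conj_mem P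
    set t' : (P : Subgroup G) := ⟨_, hg⟩ with ht'
    have hc : IsConj t (t' : G) := isConj_iff.2 ⟨g, rfl⟩
    have ht1 : t' ≠ 1 := by
      intro e
      have := congrArg Subtype.val e
      simp only [ht', OneMemClass.coe_one, conj_eq_one_iff] at this
      simp [this] at ht
    have hconj : ∀ v w : (P : Subgroup G), IsConj (v : G) w → ∃ σ ∈ E, σ v = w := by
      intro v w hvw
      obtain ⟨g, e⟩ := isConj_iff.1 hvw
      obtain ⟨n, hn, e'⟩ := exists_mem_normalizer_conj_eq P (hab v.2) (g := g) (e ▸ hab w.2)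
      rw [hE]
      exact (exists_autOf_apply_iff (P : Subgroup G).subtype_injective
        (by rw [Subgroup.range_subtype])).2 ⟨n, hn, (e'.trans e).symm⟩
    obtain ⟨lam, hl, hlam⟩ := exists_linear h.comm P.isPGroup' hm2 E hE3 (hE3 ▸ h.card_dvd)
      (t := t') (Subtype.ext (by simp [ht', htt]))
    let L : Subgroup (P : Subgroup G) := ⨅ σ ∈ E, (compAut lam σ).ker
    have hL : ∀ v, v ∈ L ↔ ∀ σ ∈ E, lam (σ v) = 1 := fun v => by
      simp [L, Subgroup.mem_iInf, MonoidHom.mem_ker]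
    have hL' : ∀ v w : (P : Subgroup G), v ∈ L → IsConj (v : G) w → w ∈ L := by
      intro v w hv hvw
      obtain ⟨τ, hτ, rfl⟩ := hconj v w hvw
      exact (hL _).2 fun σ hσ => (hL v).1 hv (σ * τ) (E.mul_mem hσ hτ)
    have e2 := o.coef_finsum (fun χ => χ t * χ t / χ 1) hl
    have e3 : coef (fun u => ∑ᶠ χ ∈ principalBlock M G, (χ t * χ t / χ 1) *
        excDec (fun u : (P : Subgroup G) => secOne 2 (u : G)) χ.1 u) lam = 0 := by
      rw [coef, Finset.sum_eq_zero, mul_zero]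
      intro u _
      by_cases hu : u ∈ L
      · have := (hL u).1 hu 1 E.one_mem
        rw [MulAut.one_apply] at this
        simp [this]
      · rw [finsum_eq_zero_of_no_product h ht2 (u := u) (fun e => hu (e ▸ L.one_mem)), zero_mul]
        exact fun x y hx hy => secOne_of_notMem fun hm => hu (even_case P L htt
          (fun v hv => hL' t' v ((hL _).2 hlam) (hc.symm.trans hv)) hL' hx hy hm)
    have hval : ∀ χ ∈ principalBlock M G, χ t =
        excDec (fun u : (P : Subgroup G) => secOne 2 (u : G)) χ.1 t' := fun χ hχ => by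
      rw [excDec_principal hM hab hfree hχ ht1, χ.isClassFunction.eq_of_isConj hc]
    have v₂' := (hval _ (o.X_subset m2)).trans (o.nonexc _ m2 _ ht1)
    have v₃' := (hval _ (o.X_subset m3)).trans (o.nonexc _ m3 _ ht1)
    have v₄ := (hval _ (o.Y_subset (o.mem _ hl))).trans (o.exc _ hl _ ht1)
    let _ := Fintype.ofFinite E
    rw [h.free.osum_eq h.comm hl, Finset.sum_congr rfl (fun σ _ => by rw [hlam σ.1 σ.2]),
      Finset.sum_const, Finset.card_univ, ← Nat.card_eq_fintype_card, hE3] at v₄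
    rw [e3, hsum (fun χ => χ t * χ t / χ 1), v₂', v₃', v₄, o.reg_eq _ (o.mem _ hl) _ hη 1
      isPRegular_one] at e2
    simp only [IrrCharacter.one_apply, χ₂.isCharacter.apply_one, χ₃.isCharacter.apply_one,
      η.isCharacter.apply_one, Units.val_one] at e2
    have q₂ : (a χ₂ : ℂ) * a χ₂ = 1 := by rcases ha _ m2 with e | e <;> simp [e]
    have q₃ : (a χ₃ : ℂ) * a χ₃ = 1 := by rcases ha _ m3 with e | e <;> simp [e]
    have q₄ : (δ : ℂ) * δ = 1 := by exact_mod_cast o.sq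
    have e4 : (charDegree η.1 : ℂ) = δ * (1 + a χ₂ * charDegree χ₂.1 + a χ₃ * charDegree χ₃.1) := by
      linear_combination (-δ : ℂ) * e1 - (charDegree η.1 : ℂ) * q₄
    have e5 : (9 : ℂ) * δ * charDegree χ₂.1 * charDegree χ₃.1 = charDegree η.1 *
        (charDegree χ₂.1 * charDegree χ₃.1 + a χ₂ * charDegree χ₃.1 + a χ₃ * charDegree χ₂.1) := by
      field_simp at e2
      linear_combination -e2 - 9 * δ * (charDegree χ₂.1 : ℂ) * charDegree χ₃.1 * q₄ +
        (charDegree η.1 : ℂ) * (a χ₂ * charDegree χ₃.1 * q₂ + a χ₃ * charDegree χ₂.1 * q₃)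
    have o₂ : Odd (a χ₂ * charDegree χ₂.1) := by
      have : x₂ = a χ₂ := by exact_mod_cast v₂.symm.trans v₂'
      rw [this] at c₂
      rcases ha _ m2 with e | e <;> rw [e] at c₂ ⊢ <;> rw [Int.odd_iff] <;>
        unfold Int.ModEq at c₂ <;> omega
    have o₃ : Odd (a χ₃ * charDegree χ₃.1) := by
      have : x₃ = a χ₃ := by exact_mod_cast v₃.symm.trans v₃'
      rw [this] at c₃
      rcases ha _ m3 with e | e <;> rw [e] at c₃ ⊢ <;> rw [Int.odd_iff] <;>
        unfold Int.ModEq at c₃ <;> omega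
    have e6 := arith_two o₂ o₃ (by
      have : (((1 + a χ₂ * charDegree χ₂.1 + a χ₃ * charDegree χ₃.1) *
          (a χ₂ * charDegree χ₂.1 * (a χ₃ * charDegree χ₃.1) + a χ₂ * charDegree χ₂.1 +
            a χ₃ * charDegree χ₃.1) : ℤ) : ℂ) =
          ((9 * (a χ₂ * charDegree χ₂.1) * (a χ₃ * charDegree χ₃.1) : ℤ) : ℂ) := by
        push_cast
        rw [e4] at e5
        linear_combination (-δ * a χ₂ * a χ₃ : ℂ) * e5 -
          (9 * (a χ₂ * charDegree χ₂.1) * (a χ₃ * charDegree χ₃.1) -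
            (1 + a χ₂ * charDegree χ₂.1 + a χ₃ * charDegree χ₃.1) * (a χ₂ * a χ₃) *
            (charDegree χ₂.1 * charDegree χ₃.1 + a χ₂ * charDegree χ₃.1 +
              a χ₃ * charDegree χ₂.1) : ℂ) * (-q₄) -
          (1 + a χ₂ * charDegree χ₂.1 + a χ₃ * charDegree χ₃.1 : ℂ) *
            (a χ₃ * charDegree χ₃.1 * q₂ + a χ₂ * charDegree χ₂.1 * q₃)
      exact_mod_cast this)
    apply hker χ₂ h12.symm
    rw [v₂', χ₂.isCharacter.apply_one]
    rcases ha _ m2 with e | e <;> rw [e] at e6 ⊢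
    · exact_mod_cast (by omega : (1 : ℤ) = charDegree χ₂.1)
    · omega
  · have hreg : IsPRegular p t := by
      rw [IsPRegular, ht]
      exact fun e => hp ((Nat.prime_dvd_prime_iff_eq Fact.out Nat.prime_two).1 e)
    obtain ⟨x₄, v₄, -, b₄⟩ := η.isCharacter.exists_int_of_sq_eq_one ht2
    have e2 := o.reg_rel η hη t hreg
    rw [hsum (fun χ => χ t)] at e2
    obtain ⟨lam, hl, rfl⟩ := o.surj η hη
    have e3 := o.coef_finsum (fun χ => χ t * χ t / χ 1) hl
    rw [coef_congr (F' := fun _ => 0) (fun u hu => finsum_eq_zero_of_no_product h ht2 hu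
      fun x y hx hy => secOne_of_notMem (odd_case hp P hab E hE h.free (by rw [hE3]; decide) hu
        (by obtain ⟨g, rfl⟩ := isConj_iff.1 hx; rw [conj_mul, htt]; simp)
        (by obtain ⟨g, rfl⟩ := isConj_iff.1 hy; rw [conj_mul, htt]; simp))),
      coef_const _ hl, hsum (fun χ => χ t * χ t / χ 1)] at e3
    simp only [IrrCharacter.one_apply, χ₂.isCharacter.apply_one, χ₃.isCharacter.apply_one,
      (ζ lam).isCharacter.apply_one, v₂, v₃, v₄] at e2 e3
    have hlt : ∀ (χ : IrrCharacter G) (x : ℤ), χ ≠ IrrCharacter.one G → χ t = x →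
        |x| ≤ charDegree χ.1 → x < charDegree χ.1 := fun χ x h1 h2 h3 =>
      lt_of_le_of_ne ((le_abs_self x).trans h3) fun e => hker χ h1 (by
        rw [h2, e, χ.isCharacter.apply_one]; simp)
    refine arith χ₂.charDegree_pos χ₃.charDegree_pos (ζ lam).charDegree_pos (ha _ m2) (ha _ m3)
      (by rcases o.sign with e | e <;> simp [e]) (hlt _ _ h12.symm v₂ b₂) (hlt _ _ h13.symm v₃ b₃)
      (hlt _ _ hη1 v₄ b₄) ?_ ?_ ?_
    · have : ((1 + a χ₂ * charDegree χ₂.1 + a χ₃ * charDegree χ₃.1 +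
          -δ * charDegree (ζ lam).1 : ℤ) : ℂ) = 0 := by
        push_cast; linear_combination e1
      exact_mod_cast this
    · have : ((1 + a χ₂ * x₂ + a χ₃ * x₃ + -δ * x₄ : ℤ) : ℂ) = 0 := by
        push_cast; linear_combination e2
      exact_mod_cast this
    · have : ((charDegree χ₂.1 * charDegree χ₃.1 * charDegree (ζ lam).1 +
          a χ₂ * x₂ ^ 2 * charDegree χ₃.1 * charDegree (ζ lam).1 +
          a χ₃ * x₃ ^ 2 * charDegree χ₂.1 * charDegree (ζ lam).1 +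
          -δ * x₄ ^ 2 * charDegree χ₂.1 * charDegree χ₃.1 : ℤ) : ℂ) = 0 := by
        push_cast
        field_simp at e3
        linear_combination e3
      exact_mod_cast this


end Aux

/-- Let p be a prime, M a maximal ideal of the algebraic integers containing p, and G a finite group with a nontrivial abelian Sylow p-subgroup P, N = N_G(P), C = C_G(P), such that N/C is cyclic of order 3, #P > 4, and C_G(y) ∩ N = C for every non-identity y ∈ P. Then the principal p-block is the disjoint union of a set X of exactly 3 characters containing the principal character and a set Y of (#P − 1)/3 characters, with signs a_χ = ±1 (χ ∈ X, a = 1 at the principal character) and δ = ±1 such that every χ ∈ X takes the value a_χ at every element whose p-part is a non-identity element of P, and there is a map ζ from the non-principal linear characters of P onto Y, constant on N-conjugacy classes, with ζ_ψ(z) = δ·Σ ψ'(y) over the N-orbit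 of ψ, for z with p-part y ≠ 1 in P. If moreover G has an involution lying in no proper normal subgroup of G, then exactly two of the three numbers −δ and a_χ (χ ∈ X non-principal) equal −1, and the product of the degrees of the two non-principal members of X and of any member of Y is a perfect square. -/
theorem result {G : Type*} [Group G] [Finite G] (p : ℕ) [Fact p.Prime] (M : Ideal Cfsg.AlgInt) (hM : Cfsg.IsPModular p M) (P : Sylow p G) (hab : IsMulCommutative P) (hP1 : Nat.card P ≠ 1) (hCN : (Subgroup.centralizer ((P : Subgroup G) : Set G)).relIndex (Subgroup.normalizer ((P : Subgroup G) : Set G)) = 3) (hcyc : ∃ g : G, g ∈ Subgroup.normalizer ((P : Subgroup G) : Set G) ∧ Subgroup.centralizer ((P : Subgroup G) : Set G) ⊔ Subgroup.zpowers g = Subgroup.normalizer ((P : Subgroup G) : Set G)) (hm2 : 3 + 1 < Nat.card P) (hfrob : ∀ y : G, y ∈ (P : Subgroup G) → y ≠ 1 → Subgroup.centralizer ({y} : Set G) ⊓ Subgroup.normalizer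 ((P : Subgroup G) : Set G) = Subgroup.centralizer ((P : Subgroup G) : Set G)) : ∃ (X Y : Set (Cfsg.IrrCharacter G)), Cfsg.principalBlock M G = X ∪ Y ∧ Disjoint X Y ∧ Nat.card X = 3 ∧ Nat.card Y = (Nat.card P - 1) / 3 ∧ (∃ χ₁ ∈ X, (χ₁ : G → ℂ) = fun _ => 1) ∧ ∃ (a : Cfsg.IrrCharacter G → ℤ) (δ : ℤ) (ζ : (↥(P : Subgroup G) →* ℂˣ) → Cfsg.IrrCharacter G), (δ = 1 ∨ δ = -1) ∧ (∀ χ ∈ X, (a χ = 1 ∨ a χ = -1) ∧ ∀ z y : G, Cfsg.IsPPart p z y → y ∈ (P : Subgroup G) → y ≠ 1 → (χ : G → ℂ) z = (a χ : ℂ)) ∧ (∀ ψ : ↥(P : Subgroup G) →* ℂˣ, ψ ≠ 1 → ζ ψ ∈ Y) ∧ (∀ η ∈ Y, ∃ ψ : ↥(P : Subgroup G) →* ℂˣ, ψ ≠ 1 ∧ ζ ψ = η) ∧ (∀ ψ ψ' : ↥(P : Subgroup G) →* ℂˣ, ψ ≠ 1 → (∃ n : G, n ∈ Subgroup.normalizer ((P : Subgroup G) : Set G) ∧ ∀ w w' : ↥(P : Subgroup G), (w' : G) = n * w * n⁻¹ → ψ' w' = ψ w) → ζ ψ' = ζ ψ) ∧ (∀ ψ : ↥(P : Subgroup G) →* ℂˣ, ψ ≠ 1 → ∀ (z : G) (y : ↥(P : Subgroup G)), Cfsg.IsPPart p z (y : G) → (y : G) ≠ 1 → (ζ ψ : G → ℂ) z = (δ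 : ℂ) * ∑ᶠ ψ' ∈ {ψ' : ↥(P : Subgroup G) →* ℂˣ | ∃ n : G, n ∈ Subgroup.normalizer ((P : Subgroup G) : Set G) ∧ ∀ w w' : ↥(P : Subgroup G), (w' : G) = n * w * n⁻¹ → ψ' w' = ψ w}, ((ψ' y : ℂˣ) : ℂ)) ∧ ((∃ t : G, orderOf t = 2 ∧ ∀ K : Subgroup G, K.Normal → t ∈ K → K = ⊤) → Nat.card {χ : Cfsg.IrrCharacter G // χ ∈ X ∧ (χ : G → ℂ) ≠ (fun _ => 1) ∧ a χ = -1} + (if δ = 1 then 1 else 0) = 2 ∧ ∀ η ∈ Y, IsSquare (Cfsg.charDegree (η : G → ℂ) * ∏ᶠ χ ∈ {χ : Cfsg.IrrCharacter G | χ ∈ X ∧ (χ : G → ℂ) ≠ fun _ => 1}, Cfsg.charDegree (χ : G → ℂ))) := by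
  classical
  let _ := Fintype.ofFinite (P : Subgroup G)
  have hab' : (P : Subgroup G) ≤ Subgroup.centralizer ((P : Subgroup G) : Set G) :=
    Subgroup.le_centralizer _
  have hP : (P : Subgroup G) ≠ ⊥ := fun e => hP1 (by rw [e]; simp)
  have hfree : ∀ y ∈ (P : Subgroup G), y ≠ 1 → Subgroup.centralizer ({y} : Set G) ⊓
      Subgroup.normalizer ((P : Subgroup G) : Set G) ≤
      Subgroup.centralizer ((P : Subgroup G) : Set G) := fun y hy h1 => (hfrob y hy h1).le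
  have h := Cfsg.excSys_principal hM hab' hP hfree
  have hE := (Cfsg.card_autOf_subtype (P := (P : Subgroup G)) le_rfl).trans hCN
  have hone := hM.one_mem_principalBlock (G := G)
  have hdec : ∀ u : (P : Subgroup G), u ≠ 1 → Cfsg.excDec (fun u : (P : Subgroup G) =>
      Cfsg.secOne p (u : G)) (Cfsg.IrrCharacter.one G).1 u = 1 := fun u hu => by
    rw [Cfsg.excDec_principal hM hab' hfree hone hu]; rfl
  have hl := (h.blockRank_eq_or hE.le).resolve_right fun h1 => by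
    have := h1.2 _ hone 1 hdec
    rw [Cfsg.IrrCharacter.charDegree_one] at this
    omega
  obtain ⟨X, Y, δ, ζ, a, o, hX, ha⟩ := h.exists_out_normal hl.ge
  have hY := o.cardY_eq
  rw [hE] at hY hX
  have m1 := o.const (by rwa [hE]) _ hone 1 hdec
  refine ⟨X, Y, o.union, o.disj, hX, hY, ⟨Cfsg.IrrCharacter.one G, m1, rfl⟩, a, δ, ζ, o.sign,
    fun χ hχ => ⟨ha χ hχ, fun z y hz hy hy1 => ?_⟩, o.mem, o.surj, fun ψ ψ' hψ hn => ?_,
    fun ψ hψ z y hz hy => ?_, ?_⟩
  · have hu : (⟨y, hy⟩ : (P : Subgroup G)) ≠ 1 := fun e => hy1 (congrArg Subtype.val e)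
    rw [Cfsg.apply_eq_excDec_principal hM hab' hfree (o.X_subset hχ) hu
      (Cfsg.mem_pSection_of_isPPart hz), o.nonexc χ hχ _ hu]
  · have := (Cfsg.orb_autOf_iff (P : Subgroup G).subtype_injective
      (by rw [Subgroup.range_subtype])).2 hn
    exact ((o.eq_iff _ _ hψ (this.ne_one hψ)).2 this).symm
  · have hu : y ≠ 1 := fun e => hy (congrArg Subtype.val e)
    rw [Cfsg.apply_eq_excDec_principal hM hab' hfree (o.Y_subset (o.mem ψ hψ)) hu
      (Cfsg.mem_pSection_of_isPPart hz), o.exc ψ hψ _ hu, Cfsg.osum_autOf_subtype le_rfl]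
    simp
  · rintro ⟨t, ht, htK⟩
    have h2 : (X \ {Cfsg.IrrCharacter.one G}).ncard = 2 := by
      rw [Set.ncard_sdiff_singleton_of_mem m1, ← Nat.card_coe_set_eq, hX]
    obtain ⟨χ₂, χ₃, h23, hX'⟩ := Set.ncard_eq_two.1 h2
    have hX'' : X = {Cfsg.IrrCharacter.one G, χ₂, χ₃} := by
      rw [← hX', Set.insert_sdiff_singleton, Set.insert_eq_of_mem m1]
    have h12 : Cfsg.IrrCharacter.one G ≠ χ₂ := fun e =>
      (hX' ▸ (by simp : χ₂ ∈ ({χ₂, χ₃} : Set _)) : χ₂ ∈ X \ {Cfsg.IrrCharacter.one G}).2 e.symm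
    have h13 : Cfsg.IrrCharacter.one G ≠ χ₃ := fun e =>
      (hX' ▸ (by simp : χ₃ ∈ ({χ₂, χ₃} : Set _)) : χ₃ ∈ X \ {Cfsg.IrrCharacter.one G}).2 e.symm
    have hset : {χ : Cfsg.IrrCharacter G | χ ∈ X ∧ (χ : G → ℂ) ≠ fun _ => 1} = {χ₂, χ₃} := by
      rw [← hX']
      ext χ
      simp only [Set.mem_ofPred_eq, Set.mem_sdiff, Set.mem_singleton_iff]
      exact and_congr_right fun _ => not_congr ⟨fun e => Subtype.ext e, fun e => e ▸ rfl⟩
    have key := fun η hη => last_part p M hM P hab' hfree _ rfl h hE hm2 o ha hX'' h12 h13 h23 ht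
      htK (η := η) hη
    refine ⟨?_, fun η hη => ?_⟩
    · obtain ⟨η, hη⟩ := o.Y_nonempty h
      rw [← (key η hη).1]
      congr 1
      · have : Nat.card {χ : Cfsg.IrrCharacter G // χ ∈ X ∧ (χ : G → ℂ) ≠ (fun _ => 1) ∧
            a χ = -1} = (({χ₂, χ₃} : Finset _).filter fun χ => a χ = -1).card := by
          apply Nat.subtype_card
          intro χ
          have := Set.ext_iff.1 hset χ
          simp only [Set.mem_ofPred_eq, Set.mem_insert_iff, Set.mem_singleton_iff] at this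
          simp only [Finset.mem_filter, Finset.mem_insert, Finset.mem_singleton, ← this, and_assoc]
        rw [this, Finset.card_filter, Finset.sum_pair h23]
      · simp
    · rw [hset, finprod_mem_pair h23]
      exact (key η hη).2

end Cfsg.Agent.S4721
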