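import Cfsg.Statements.S4481
import Cfsg.Agent.Blk.PrinDih
import Mathlib.GroupTheory.SpecificGroups.Dihedral

set_option autoImplicit false
open Cfsg

namespace Cfsg.Agent.S4481

section

open Finset

theorem supp {ι : Type*} [DecidableEq ι] (S : Finset ι) (u : ι → ℤ) (n : ℕ) (hn : n ≤ 3)
    (h : ∑ x ∈ S, u x * u x = n) :
    ∃ T ⊆ S, T.card = n ∧ (∀ x ∈ T, u x = 1 ∨ u x = -1) ∧ ∀ x ∈ S, x ∉ T → u x = 0 := by
  have h1 : ∀ x ∈ S.filter (u · ≠ 0), u x = 1 ∨ u x = -1 := by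
    intro x hx
    obtain ⟨hx, hx0⟩ := mem_filter.1 hx
    have a1 : u x * u x ≤ 3 := by
      have := single_le_sum (f := fun x => u x * u x) (fun y _ => mul_self_nonneg _) hx
      omega
    have a3 : u x ≤ 1 := by nlinarith
    have a4 : -1 ≤ u x := by nlinarith
    omega
  refine ⟨S.filter (u · ≠ 0), filter_subset _ _, ?_, h1, fun x hx hx' => by simpa [hx] using hx'⟩
  rw [← sum_filter_of_ne (p := (u · ≠ 0)) (fun x _ hx h0 => hx (by rw [h0, mul_zero])),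
    sum_congr rfl (g := fun _ => 1) fun x hx => by rcases h1 x hx with a | a <;> simp [a]] at h
  simpa using h

theorem norm_two {ι : Type*} [DecidableEq ι] (S : Finset ι) (u d : ι → ℤ) (hd : ∀ x, 0 < d x)
    (h : ∑ x ∈ S, u x * u x = 2) (h' : ∑ x ∈ S, u x * d x = -1) :
    ∃ a ∈ S, ∃ b ∈ S, a ≠ b ∧ ∀ x ∈ S, u x = (if x = a then 1 else 0) - if x = b then 1 else 0 := by
  obtain ⟨T, hT, hc, h1, h2⟩ := supp S u 2 (by norm_num) h
  obtain ⟨a, b, hab, rfl⟩ := card_eq_two.1 hc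
  have ha : a ∈ S := hT (by simp)
  have hb : b ∈ S := hT (by simp)
  rw [← sum_subset hT (fun x hx hx' => by rw [h2 x hx hx', zero_mul]), sum_pair hab] at h'
  have key : ∀ a b : ι, a ≠ b → u a = 1 → u b = -1 → (∀ x ∈ S, x ≠ a → x ≠ b → u x = 0) →
      ∀ x ∈ S, u x = (if x = a then 1 else 0) - if x = b then 1 else 0 := by
    intro a b hab e1 e2 e3 x hx
    by_cases hxa : x = a
    · subst hxa; simp [hab, e1]
    · by_cases hxb : x = b
      · subst hxb; simp [hxa, e2]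
      · simp [hxa, hxb, e3 x hx hxa hxb]
  have da := hd a
  have db := hd b
  rcases h1 a (by simp) with e1 | e1 <;> rcases h1 b (by simp) with e2 | e2 <;>
    rw [e1, e2] at h'
  · omega
  · exact ⟨a, ha, b, hb, hab, key a b hab e1 e2 fun x hx c1 c2 => h2 x hx (by simp [c1, c2])⟩
  · exact ⟨b, hb, a, ha, hab.symm,
      key b a hab.symm e2 e1 fun x hx c1 c2 => h2 x hx (by simp [c1, c2])⟩
  · omega

theorem coherence {ι : Type*} [DecidableEq ι] (S : Finset ι) (d : ι → ℤ) (hd : ∀ x, 0 < d x)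
    {t : ℕ} (ht : Odd t) (v : Fin t → ι → ℤ) (w : ι → ℤ)
    (hvv : ∀ j, ∑ x ∈ S, v j x * v j x = 2) (hvv' : ∀ j k, j ≠ k → ∑ x ∈ S, v j x * v k x = 1)
    (hww : ∑ x ∈ S, w x * w x = 3) (hvw : ∀ j, ∑ x ∈ S, v j x * w x = 1)
    (hvd : ∀ j, ∑ x ∈ S, v j x * d x = -1) (hwd : ∑ x ∈ S, w x * d x = -1) :
    ∃ c₁ ∈ S, ∃ c₂ ∈ S, ∃ c₃ ∈ S, ∃ (leaf : Fin t → ι) (δ₁ δ₂ δ₃ : ℤ), (δ₁ = 1 ∨ δ₁ = -1) ∧
      (δ₂ = 1 ∨ δ₂ = -1) ∧ (δ₃ = 1 ∨ δ₃ = -1) ∧ Function.Injective leaf ∧ (∀ j, leaf j ∈ S) ∧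
      c₁ ≠ c₂ ∧ c₁ ≠ c₃ ∧ c₂ ≠ c₃ ∧ (∀ j, leaf j ≠ c₁ ∧ leaf j ≠ c₂ ∧ leaf j ≠ c₃) ∧
      (∀ j, ∀ x ∈ S, v j x = (if x = c₁ then δ₁ else 0) - if x = leaf j then δ₁ else 0) ∧
      ∀ x ∈ S, w x = (if x = c₁ then δ₁ else 0) + (if x = c₂ then δ₂ else 0) +
        if x = c₃ then δ₃ else 0 := by
  choose a ha b hb hab hv using fun j => norm_two S (v j) d hd (hvv j) (hvd j)
  have hip : ∀ j (f : ι → ℤ), ∑ x ∈ S, v j x * f x = f (a j) - f (b j) := by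
    intro j f
    rw [sum_congr rfl fun x hx => by rw [hv j x hx]]
    simp [sub_mul, sum_sub_distrib, ha j, hb j]
  obtain ⟨T, hT, hc, hw1, hw2⟩ := supp S w 3 le_rfl hww
  have hw3 : ∀ x ∈ S, w x = 0 ∨ w x = 1 ∨ w x = -1 := fun x hx => by
    by_cases hx' : x ∈ T
    · exact Or.inr (hw1 x hx')
    · exact Or.inl (hw2 x hx hx')
  have hw4 : ∀ j, w (a j) - w (b j) = 1 := fun j => by rw [← hip, hvw]
  have hjk : ∀ j k, j ≠ k → (a j = a k ∧ b j ≠ b k) ∨ (a j ≠ a k ∧ b j = b k) := by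
    intro j k hjk
    have h1 := hvv' j k hjk
    rw [hip, hv k _ (ha j), hv k _ (hb j)] at h1
    have := hab j
    have := hab k
    by_cases e1 : a j = a k <;> by_cases e2 : b j = b k <;> simp only [e1, e2, ne_eq,
      not_true_eq_false, not_false_eq_true, and_true, and_false, or_true, true_or] <;>
      split_ifs at h1 <;> simp_all
  have hthree : ∀ (ε : ℤ) (x y z : ι), (ε = 1 ∨ ε = -1) → x ∈ S → y ∈ S → z ∈ S → x ≠ y →
      x ≠ z → y ≠ z → w x = ε → w y = ε → w z = ε → False := by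
    intro ε x y z hε hx hy hz e1 e2 e3 f1 f2 f3
    have hε0 : ε ≠ 0 := by omega
    have hsub : ({x, y, z} : Finset ι) ⊆ T := by
      intro s hs
      by_contra hs'
      simp only [mem_insert, mem_singleton] at hs
      rcases hs with rfl | rfl | rfl
      · exact hε0 (f1 ▸ hw2 _ hx hs')
      · exact hε0 (f2 ▸ hw2 _ hy hs')
      · exact hε0 (f3 ▸ hw2 _ hz hs')
    have heq := eq_of_subset_of_card_le hsub (by rw [hc, card_eq_three.2 ⟨x, y, z, e1, e2, e3, rfl⟩])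
    rw [← sum_subset hT (fun x hx hx' => by rw [hw2 x hx hx', zero_mul]), ← heq,
      sum_insert (by simp [e1, e2]), sum_pair e3, f1, f2, f3] at hwd
    have := hd x
    have := hd y
    have := hd z
    rcases hε with rfl | rfl <;> omega
  have hthird : ∀ i j : Fin t, i ≠ j → ∃ k, k ≠ i ∧ k ≠ j := by
    intro i j hij
    by_contra hc
    push Not at hc
    have : (univ : Finset (Fin t)) = {i, j} := by
      ext k
      by_cases hk : k = i
      · simp [hk]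
      · simp [hc k hk]
    have h2 := congrArg card this
    rw [card_univ, Fintype.card_fin, card_pair hij] at h2
    rw [h2] at ht
    exact absurd ht (by decide)
  let j₀ : Fin t := ⟨0, ht.pos⟩
  obtain ⟨c, hcS, leaf, δ, hδ, hinj, hleaf, hne, hwc, hwl, hvj⟩ : ∃ c ∈ S, ∃ (leaf : Fin t → ι)
      (δ : ℤ), (δ = 1 ∨ δ = -1) ∧ Function.Injective leaf ∧ (∀ j, leaf j ∈ S) ∧
      (∀ j, leaf j ≠ c) ∧ w c = δ ∧ (∀ j, w (leaf j) = 0) ∧
      ∀ j, ∀ x ∈ S, v j x = (if x = c then δ else 0) - if x = leaf j then δ else 0 := by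
    by_cases h0 : w (a j₀) = 1
    · have hall : ∀ j, a j = a j₀ := by
        intro j
        by_contra hj
        have hj0 : j ≠ j₀ := fun h => hj (h ▸ rfl)
        obtain ⟨k, hk1, hk2⟩ := hthird j j₀ hj0
        have e1 := ((hjk j j₀ hj0).resolve_left fun h => hj h.1).2
        have f0 := hw4 j₀
        have f1 := hw4 j
        have f2 := hw4 k
        rcases hjk k j hk1 with e2 | e2 <;> rcases hjk k j₀ hk2 with e3 | e3
        · exact hj (e2.1.symm.trans e3.1)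
        · exact e2.2 (e3.2.trans e1.symm)
        · exact e3.2 (e2.2.trans e1)
        · refine hthree 1 (a j₀) (a j) (a k) (Or.inl rfl) (ha _) (ha _) (ha _) (Ne.symm hj)
            (Ne.symm e3.1) (Ne.symm e2.1) h0 ?_ ?_
          · rw [e1] at f1; omega
          · rw [e3.2] at f2; omega
      refine ⟨a j₀, ha _, b, 1, Or.inl rfl, fun j k h => ?_, hb, fun j => hall j ▸ (hab j).symm,
        h0, fun j => ?_, fun j x hx => by rw [hv j x hx, hall j]⟩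
      · by_contra hne
        rcases hjk j k hne with e | e
        · exact e.2 h
        · exact e.1 ((hall j).trans (hall k).symm)
      · have := hw4 j
        rw [hall j] at this
        omega
    · have h0' : w (b j₀) = -1 := by
        have := hw4 j₀
        have := hw3 _ (ha j₀)
        have := hw3 _ (hb j₀)
        omega
      have hall : ∀ j, b j = b j₀ := by
        intro j
        by_contra hj
        have hj0 : j ≠ j₀ := fun h => hj (h ▸ rfl)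
        obtain ⟨k, hk1, hk2⟩ := hthird j j₀ hj0
        have e1 := ((hjk j j₀ hj0).resolve_right fun h => hj h.2).1
        have f0 := hw4 j₀
        have f1 := hw4 j
        have f2 := hw4 k
        rcases hjk k j hk1 with e2 | e2 <;> rcases hjk k j₀ hk2 with e3 | e3
        · refine hthree (-1) (b j₀) (b j) (b k) (Or.inr rfl) (hb _) (hb _) (hb _) (Ne.symm hj)
            (Ne.symm e3.2) (Ne.symm e2.2) h0' ?_ ?_
          · rw [e1] at f1; omega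
          · rw [e3.1] at f2; omega
        · exact e3.1 (e2.1.trans e1)
        · exact e2.1 (e3.1.trans e1.symm)
        · exact hj (e2.2.symm.trans e3.2)
      refine ⟨b j₀, hb _, a, -1, Or.inr rfl, fun j k h => ?_, ha, fun j => hall j ▸ hab j,
        h0', fun j => ?_, fun j x hx => ?_⟩
      · by_contra hne
        rcases hjk j k hne with e | e
        · exact e.2 ((hall j).trans (hall k).symm)
        · exact e.1 h
      · have := hw4 j
        rw [hall j] at this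
        omega
      · rw [hv j x hx, hall j]
        split_ifs <;> simp
  have hcT : c ∈ T := by
    by_contra h
    have := hw2 c hcS h
    omega
  obtain ⟨c₂, c₃, h23, he⟩ := card_eq_two.1 (show (T.erase c).card = 2 by
    rw [card_erase_of_mem hcT, hc])
  have m2 : c₂ ∈ T.erase c := he ▸ by simp
  have m3 : c₃ ∈ T.erase c := he ▸ by simp
  obtain ⟨n2, m2⟩ := mem_erase.1 m2
  obtain ⟨n3, m3⟩ := mem_erase.1 m3
  refine ⟨c, hcS, c₂, hT m2, c₃, hT m3, leaf, δ, w c₂, w c₃, hδ, hw1 _ m2, hw1 _ m3, hinj, hleaf,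
    n2.symm, n3.symm, h23, fun j => ⟨hne j, fun h => ?_, fun h => ?_⟩, hvj, fun x hx => ?_⟩
  · have := hwl j
    have := hw1 _ m2
    rw [h] at *
    omega
  · have := hwl j
    have := hw1 _ m3
    rw [h] at *
    omega
  · by_cases e1 : x = c
    · subst e1; simp [n2.symm, n3.symm, hwc]
    by_cases e2 : x = c₂
    · subst e2; simp [n2, h23]
    by_cases e3 : x = c₃
    · subst e3; simp [n3, h23.symm]
    have : x ∉ T := fun h => by
      have : x ∈ T.erase c := mem_erase.2 ⟨e1, h⟩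
      rw [he] at this
      simp [e2, e3] at this
    simp [e1, e2, e3, hw2 x hx this]

end

section

open Cfsg
open Finset Subgroup
open scoped ComplexConjugate

theorem exists_isDihPair_of_equiv {G : Type*} [Group G] [Finite G] {P : Subgroup G} {m : ℕ}
    (hm : 2 < m) (e : P ≃* DihedralGroup m) {σ : G} (hσ : σ ∈ P) (hσo : orderOf σ = m) :
    ∃ τ, IsDihPair P σ τ := by
  haveI : NeZero m := ⟨by omega⟩
  have h1 : orderOf (e ⟨σ, hσ⟩) = m := by rw [e.orderOf_eq, ← Subgroup.orderOf_coe, hσo]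
  obtain ⟨k, hk⟩ : ∃ k, e ⟨σ, hσ⟩ = DihedralGroup.r k := by
    rcases h : e ⟨σ, hσ⟩ with k | k
    · exact ⟨k, rfl⟩
    · rw [h, DihedralGroup.orderOf_sr] at h1; omega
  have hr1 : ∀ i : ZMod m, DihedralGroup.r i ∈ zpowers (DihedralGroup.r 1) := fun i =>
    ⟨i.val, by simp⟩
  have hr : ∀ x : P, (x : G) ∈ zpowers σ ↔ ∃ i, e x = DihedralGroup.r i := by
    intro x
    constructor
    · intro hx
      obtain ⟨j, hj⟩ := mem_zpowers_iff.1 hx
      have : x = ⟨σ, hσ⟩ ^ j := Subtype.ext hj.symm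
      rw [this, map_zpow, hk, DihedralGroup.r_zpow]
      exact ⟨_, rfl⟩
    · rintro ⟨i, hi⟩
      have h2 := mem_zpowers_of_orderOf_dvd_of_mem (hr1 k) (hr1 i) (by
        rw [← hk, h1]
        have := orderOf_dvd_of_mem_zpowers (hr1 i)
        rwa [DihedralGroup.orderOf_r_one] at this)
      obtain ⟨j, hj⟩ := mem_zpowers_iff.1 h2
      rw [← hk, ← hi, ← map_zpow, e.apply_eq_iff_eq] at hj
      exact mem_zpowers_iff.2 ⟨j, congrArg Subtype.val hj⟩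
  let t := e.symm (DihedralGroup.sr 0)
  have ht : e t = DihedralGroup.sr 0 := e.apply_symm_apply _
  refine ⟨t, hσ, t.2, ?_, ?_, ?_, fun x hx => ?_⟩
  · have : t * t = 1 := e.injective (by rw [map_mul, ht, map_one]; simp)
    exact congrArg Subtype.val this
  · have : t * ⟨σ, hσ⟩ * t⁻¹ = ⟨σ, hσ⟩⁻¹ := e.injective (by
      rw [map_mul, map_mul, map_inv, map_inv, ht, hk]; simp)
    exact congrArg Subtype.val this
  · rw [hr, ht]; simp
  · rcases h : e ⟨x, hx⟩ with i | i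
    · exact Or.inl ((hr ⟨x, hx⟩).2 ⟨i, h⟩)
    · exact Or.inr ((hr (⟨x, hx⟩ * t)).2 ⟨_, by rw [map_mul, h, ht, DihedralGroup.sr_mul_sr]⟩)

open Classical in
theorem geom {m : ℕ} {z : ℂ} (hz : z ^ m = 1) :
    ∑ l ∈ range m, z ^ l = if z = 1 then (m : ℂ) else 0 := by
  split_ifs with h
  · simp [h]
  · rw [geom_sum_eq h, hz]; simp

theorem geomZ {m : ℕ} {ζ : ℂ} (hζ : IsPrimitiveRoot ζ m) (k : ℤ) :
    ∑ l ∈ range m, ζ ^ (k * l) = if (m : ℤ) ∣ k then (m : ℂ) else 0 := by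
  classical
  simp only [zpow_mul, zpow_natCast]
  rw [geom]
  · simp only [hζ.zpow_eq_one_iff_dvd]
  · rw [← zpow_natCast, ← zpow_mul, mul_comm, zpow_mul, zpow_natCast, hζ.pow_eq_one, one_zpow]

theorem split_sum {h : ℕ} (hh : 0 < h) (F : ℕ → ℂ) :
    ∑ j ∈ range (2 * h), F j =
      F 0 + F h + ∑ i : Fin (h - 1), (F (i + 1) + F (2 * h - (i + 1))) := by
  obtain ⟨t, rfl⟩ : ∃ t, h = t + 1 := ⟨h - 1, by omega⟩
  rw [two_mul, sum_range_add, sum_range_succ', sum_range_succ', add_zero,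
    ← sum_range_reflect (fun k => F (t + 1 + (k + 1))) t,
    Fin.sum_univ_eq_sum_range (fun i => F (i + 1) + F (t + 1 + (t + 1) - (i + 1))) (t + 1 - 1),
    Nat.add_sub_cancel, sum_add_distrib]
  have : ∑ j ∈ range t, F (t + 1 + (t - 1 - j + 1)) =
      ∑ j ∈ range t, F (t + 1 + (t + 1) - (j + 1)) :=
    sum_congr rfl fun j hj => by
      rw [mem_range] at hj
      congr 1; omega
  rw [this]; ring

variable {G : Type*} [Group G] [Finite G]

/-- The difference of the multiplicities of `1` and of `ζ^{-j}` as eigenvalues of `σ`. -/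
noncomputable def V (σ : G) (ζ : ℂ) (j : ℤ) (χ : G → ℂ) : ℂ :=
  (orderOf σ : ℂ)⁻¹ * ∑ l ∈ range (orderOf σ), χ (σ ^ l) * (1 - ζ ^ (j * l))

variable {σ : G} {ζ : ℂ}

theorem ord_ne_zero (σ : G) : (orderOf σ : ℂ) ≠ 0 := by exact_mod_cast (orderOf_pos σ).ne'

theorem V_int (hζ : IsPrimitiveRoot ζ (orderOf σ)) (j : ℤ) (χ : IrrCharacter G) :
    ∃ z : ℤ, V σ ζ j χ.1 = z := by
  classical
  obtain ⟨ε, h1, h2, -⟩ := χ.isCharacter.exists_roots σ
  refine ⟨∑ i, ((if ε i = 1 then 1 else 0) - if ε i * ζ ^ j = 1 then 1 else 0), ?_⟩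
  rw [V, inv_mul_eq_iff_eq_mul₀ (ord_ne_zero σ)]
  push_cast
  simp only [h2, sum_mul, mul_sum]
  rw [sum_comm]
  refine sum_congr rfl fun i _ => ?_
  have h3 : (ε i * ζ ^ j) ^ orderOf σ = 1 := by
    rw [mul_pow, h1, ← zpow_natCast, ← zpow_mul, mul_comm j, zpow_mul, zpow_natCast,
      hζ.pow_eq_one, one_zpow, mul_one]
  simp only [mul_sub, mul_one, sum_sub_distrib, zpow_mul, zpow_natCast, ← mul_pow]
  rw [geom (h1 i), geom h3]
  split_ifs <;> simp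

theorem V_one (hζ : IsPrimitiveRoot ζ (orderOf σ)) {j : ℤ} (hj : ¬ (orderOf σ : ℤ) ∣ j) :
    V σ ζ j (IrrCharacter.one G).1 = 1 := by
  have : ∀ g, (IrrCharacter.one G).1 g = 1 := fun _ => rfl
  simp only [V, this, one_mul, sum_sub_distrib, geomZ hζ, if_neg hj]
  simp [ord_ne_zero σ]

theorem V_zero (χ : G → ℂ) : V σ ζ 0 χ = 0 := by simp [V]

theorem V_neg (hζ : IsPrimitiveRoot ζ (orderOf σ)) (j : ℤ) (χ : IrrCharacter G)
    (hr : ∀ l : ℕ, conj (χ (σ ^ l)) = χ (σ ^ l)) :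
    V σ ζ (orderOf σ - j) χ.1 = V σ ζ j χ.1 := by
  obtain ⟨z, hz⟩ := V_int hζ j χ
  have h0 : ζ ≠ 0 := hζ.ne_zero (orderOf_pos σ).ne'
  have h1 : conj ζ = ζ⁻¹ :=
    (Complex.inv_eq_conj (hζ.norm'_eq_one (orderOf_pos σ).ne')).symm
  rw [hz, ← map_intCast (starRingEnd ℂ), ← hz]
  simp only [V, map_mul, map_sum, map_sub, map_one, map_inv₀, map_natCast, map_zpow₀, h1]
  congr 1
  refine sum_congr rfl fun l _ => ?_
  rw [hr, sub_mul (orderOf σ : ℤ), zpow_sub₀ h0, zpow_mul ζ (orderOf σ), zpow_natCast ζ,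
    hζ.pow_eq_one, one_zpow, inv_zpow, one_div]

theorem V_inv (hζ : IsPrimitiveRoot ζ (orderOf σ)) (χ : G → ℂ) {l : ℕ} (h0 : 0 < l)
    (hl : l < orderOf σ) :
    χ (σ ^ l) = -∑ j ∈ range (orderOf σ), V σ ζ j χ * ζ ^ (-(l : ℤ) * j) := by
  have hz : ζ ≠ 0 := hζ.ne_zero (orderOf_pos σ).ne'
  simp only [V, mul_assoc, ← mul_sum, sum_mul]
  rw [sum_comm]
  have e : ∀ l' ∈ range (orderOf σ), ∑ j ∈ range (orderOf σ),
      χ (σ ^ l') * ((1 - ζ ^ ((j : ℤ) * l')) * ζ ^ (-(l : ℤ) * j)) =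
      if l' = l then -(orderOf σ * χ (σ ^ l)) else 0 := by
    intro l' hl'
    rw [mem_range] at hl'
    have e2 : ∀ j : ℕ, (1 - ζ ^ ((j : ℤ) * l')) * ζ ^ (-(l : ℤ) * j) =
        ζ ^ (-(l : ℤ) * j) - ζ ^ (((l' : ℤ) - l) * j) := fun j => by
      rw [sub_mul, one_mul, ← zpow_add₀ hz]; congr 2; ring
    simp only [← mul_sum, e2, sum_sub_distrib, geomZ hζ]
    rw [if_neg]
    · by_cases h : l' = l
      · subst h; simp [mul_comm]
      · rw [if_neg h, if_neg]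
        · simp
        · intro hd
          have := Int.eq_zero_of_abs_lt_dvd hd (by rw [abs_lt]; omega)
          omega
    · intro hd
      have := Int.eq_zero_of_abs_lt_dvd hd (by rw [abs_lt]; omega)
      omega
  rw [sum_congr rfl e, sum_ite_eq', if_pos (mem_range.2 hl)]
  field_simp [ord_ne_zero σ]

open Classical in
theorem sum_ite_pow (hζ : IsPrimitiveRoot ζ (orderOf σ)) (j s : ℤ) :
    ∑ l ∈ range (orderOf σ), (1 - ζ ^ (j * l)) * (if σ ^ l = σ ^ s then 1 else 0) =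
      1 - ζ ^ (j * s) := by
  have hz : ζ ≠ 0 := hζ.ne_zero (orderOf_pos σ).ne'
  have hp : (0 : ℤ) < orderOf σ := by exact_mod_cast orderOf_pos σ
  have h1 := Int.emod_nonneg s hp.ne'
  have h2 := Int.emod_lt_of_pos s hp
  have h3 : ((s % orderOf σ).toNat : ℤ) = s % orderOf σ := Int.toNat_of_nonneg h1
  have h4 : σ ^ (s % orderOf σ).toNat = σ ^ s := by rw [← zpow_natCast, h3, zpow_mod_orderOf]
  rw [sum_eq_single_of_mem (s % orderOf σ).toNat (mem_range.2 (by omega)), if_pos h4, mul_one, h3]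
  · congr 1
    conv_rhs => rw [← Int.emod_add_mul_ediv s (orderOf σ), mul_add, zpow_add₀ hz, mul_left_comm,
      zpow_mul ζ (orderOf σ), zpow_natCast, hζ.pow_eq_one, one_zpow, mul_one]
  · intro l hl hne
    rw [if_neg, mul_zero]
    rw [← h4]
    intro h
    exact hne (pow_injOn_Iio_orderOf (mem_range.1 hl) (by simp only [Set.mem_Iio]; omega) h)

variable {P : Subgroup G} {τ J : G} {M : Ideal AlgInt}

open Classical in
theorem V_orth (hζ : IsPrimitiveRoot ζ (orderOf σ)) (h : IsDihPair P σ τ) (hM : IsPModular 2 M)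
    (hP : IsPGroup 2 P) (hi : ¬ 2 ∣ P.index) (hJ : J ∈ zpowers σ) (hJ2 : orderOf J = 2)
    {j k : ℤ} (hj : ¬ (orderOf σ : ℤ) ∣ j) (hk : ¬ (orderOf σ : ℤ) ∣ k) :
    ∑ χ ∈ univ.filter (· ∈ principalBlock M G), V σ ζ j χ.1 * V σ ζ k χ.1 =
      2 + (if (orderOf σ : ℤ) ∣ j + k then 1 else 0) + if (orderOf σ : ℤ) ∣ k - j then 1 else 0 := by
  have hz : ζ ≠ 0 := hζ.ne_zero (orderOf_pos σ).ne'
  have h0 := ord_ne_zero σ
  have e1 : ∀ χ : IrrCharacter G, V σ ζ j χ.1 * V σ ζ k χ.1 = ((orderOf σ : ℂ)⁻¹) ^ 2 *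
      ∑ l' ∈ range (orderOf σ), (1 - ζ ^ (k * l')) * ∑ l ∈ range (orderOf σ),
        (1 - ζ ^ (j * l)) * (χ (σ ^ l) * χ (σ ^ l')) := by
    intro χ
    simp only [V, mul_sum, sum_mul]
    exact sum_congr rfl fun l' _ => sum_congr rfl fun l _ => by ring
  simp only [e1, ← mul_sum]
  rw [sum_comm]
  have e2 : ∀ l' ∈ range (orderOf σ), ∑ χ ∈ univ.filter (· ∈ principalBlock M G),
      (1 - ζ ^ (k * l')) * ∑ l ∈ range (orderOf σ), (1 - ζ ^ (j * l)) * (χ (σ ^ l) * χ (σ ^ l')) =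
      orderOf σ * (2 - ζ ^ (j * l') - ζ ^ (-j * l') - 2 * ζ ^ (k * l') + ζ ^ ((j + k) * l') +
        ζ ^ ((k - j) * l')) := by
    intro l' hl'
    rw [mem_range] at hl'
    rcases Nat.eq_zero_or_pos l' with rfl | hpos
    · simp; norm_num
    have hne : σ ^ l' ≠ 1 := pow_ne_one_of_lt_orderOf hpos.ne' hl'
    rw [← mul_sum, sum_comm]
    simp only [← mul_sum]
    have e3 := fun l : ℕ => h.finsum_mul hM hP hi hJ hJ2 (pow_mem (mem_zpowers σ) l)
      (pow_mem (mem_zpowers σ) l') hne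
    simp only [finsum_mem_irr_eq_sum] at e3
    simp only [e3, mul_left_comm _ (orderOf σ : ℂ), ← mul_sum, mul_add, sum_add_distrib]
    have e4 := sum_ite_pow hζ j l'
    have e5 := sum_ite_pow hζ j (-l')
    rw [zpow_natCast] at e4
    rw [zpow_neg, zpow_natCast] at e5
    rw [e4, e5, add_mul j k, sub_mul k j, zpow_add₀ hz, zpow_sub₀ hz, mul_neg j, neg_mul j, zpow_neg]
    ring
  rw [sum_congr rfl e2, ← mul_sum]
  simp only [sum_add_distrib, sum_sub_distrib, ← mul_sum, geomZ hζ, dvd_neg, if_neg hj, if_neg hk]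
  simp only [sum_const, card_range, nsmul_eq_mul]
  split_ifs <;> field_simp <;> ring

open Classical in
theorem V_deg (h : IsDihPair P σ τ) (hM : IsPModular 2 M) (hP : IsPGroup 2 P) (j : ℤ) {ρ : G}
    (hρ : ¬ 2 ∣ orderOf ρ) :
    ∑ χ ∈ univ.filter (· ∈ principalBlock M G), V σ ζ j χ.1 * χ ρ = 0 := by
  simp only [V, mul_assoc, ← mul_sum, sum_mul]
  rw [sum_comm]
  refine mul_eq_zero_of_right _ (sum_eq_zero fun l hl => ?_)
  rcases Nat.eq_zero_or_pos l with rfl | hpos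
  · simp
  have hne : σ ^ l ≠ 1 := pow_ne_one_of_lt_orderOf hpos.ne' (mem_range.1 hl)
  have h2 : 2 ∣ orderOf (σ ^ l) := by
    by_contra h2
    exact hne ((h.isPElt hP (pow_mem (mem_zpowers σ) l)).eq_one_of_isPRegular h2)
  have h3 := isPBlock_principalBlock.finsum_mul_conj_eq_zero_of_regular hM hρ h2
  simp only [finsum_mem_irr_eq_sum, h.conj_irr_apply _ (pow_mem (mem_zpowers σ) l)] at h3
  rw [← mul_zero (1 - ζ ^ (j * l)), ← h3, mul_sum]
  exact sum_congr rfl fun χ _ => by ring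

open Classical in
/-- The main statement in terms of a dihedral pair. -/
theorem main (h : IsDihPair P σ τ) (hM : IsPModular 2 M) (hP : IsPGroup 2 P)
    (hi : ¬ 2 ∣ P.index) {q : ℕ} (hq : Even q) (hq0 : 0 < q) (hσo : orderOf σ = 2 * q)
    (hζ : IsPrimitiveRoot ζ (2 * q)) :
    Nat.card (principalBlock M G) = 3 + q ∧ ∃ (χ₁ χ₂ χ₃ : IrrCharacter G)
      (χ' : Fin (q - 1) → IrrCharacter G) (δ₁ δ₂ δ₃ : ℤ), (δ₁ = 1 ∨ δ₁ = -1) ∧
      (δ₂ = 1 ∨ δ₂ = -1) ∧ (δ₃ = 1 ∨ δ₃ = -1) ∧ Function.Injective χ' ∧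
      (χ₁ : G → ℂ) ≠ (fun _ => 1) ∧ (χ₂ : G → ℂ) ≠ (fun _ => 1) ∧ (χ₃ : G → ℂ) ≠ (fun _ => 1) ∧
      χ₁ ≠ χ₂ ∧ χ₁ ≠ χ₃ ∧ χ₂ ≠ χ₃ ∧
      (∀ j, χ' j ≠ χ₁ ∧ χ' j ≠ χ₂ ∧ χ' j ≠ χ₃ ∧ (χ' j : G → ℂ) ≠ (fun _ => 1)) ∧
      principalBlock M G = {χ : IrrCharacter G | (χ : G → ℂ) = (fun _ => 1) ∨ χ = χ₁ ∨ χ = χ₂ ∨
        χ = χ₃ ∨ ∃ j, χ = χ' j} ∧
      (∀ l : ℕ, 0 < l → l < 2 * q → (χ₁ : G → ℂ) (σ ^ l) = δ₁ ∧
        (χ₂ : G → ℂ) (σ ^ l) = δ₂ * (-1) ^ (l + 1) ∧ (χ₃ : G → ℂ) (σ ^ l) = δ₃ * (-1) ^ (l + 1) ∧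
        ∀ j : Fin (q - 1), (χ' j : G → ℂ) (σ ^ l) =
          δ₁ * (ζ ^ (((j : ℕ) + 1) * l) + (ζ ^ (((j : ℕ) + 1) * l))⁻¹)) ∧
      ∀ ρ : G, Odd (orderOf ρ) → ∀ j : Fin (q - 1),
        1 + δ₁ * (χ₁ : G → ℂ) ρ = -δ₂ * (χ₂ : G → ℂ) ρ - δ₃ * (χ₃ : G → ℂ) ρ ∧
        1 + δ₁ * (χ₁ : G → ℂ) ρ = δ₁ * (χ' j : G → ℂ) ρ := by
  have hζ' : IsPrimitiveRoot ζ (orderOf σ) := hσo ▸ hζ
  have hz0 : ζ ≠ 0 := hζ.ne_zero (by omega)
  have hJ : σ ^ q ∈ zpowers σ := pow_mem (mem_zpowers σ) q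
  have hJ2 : orderOf (σ ^ q) = 2 := by
    rw [orderOf_pow_of_dvd hq0.ne' (hσo ▸ Dvd.intro_left 2 rfl), hσo, Nat.mul_div_cancel _ hq0]
  choose z hz using fun (j : ℤ) (χ : IrrCharacter G) => V_int hζ' j χ
  set B := univ.filter (· ∈ principalBlock M G) with hB
  set o := IrrCharacter.one G with ho
  have hoB : o ∈ B := by simpa [hB] using hM.one_mem_principalBlock
  have hndvd : ∀ j : ℤ, 0 < j → j < 2 * q → ¬ (orderOf σ : ℤ) ∣ j := fun j h1 h2 hd => by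
    have := Int.le_of_dvd h1 hd
    rw [hσo] at this
    push_cast at this
    omega
  have hzo : ∀ j : ℤ, 0 < j → j < 2 * q → z j o = 1 := fun j h1 h2 => by
    have := hz j o
    rw [V_one hζ' (hndvd j h1 h2)] at this
    exact_mod_cast this.symm
  have horth : ∀ j k : ℤ, 0 < j → j ≤ q → 0 < k → k ≤ q → ∑ χ ∈ B.erase o, z j χ * z k χ =
      1 + (if j = q ∧ k = q then 1 else 0) + if j = k then 1 else 0 := by
    intro j k h1 h2 h3 h4
    have h5 := V_orth hζ' h hM hP hi hJ hJ2 (hndvd j h1 (by omega)) (hndvd k h3 (by omega))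
    have e1 : (orderOf σ : ℤ) ∣ j + k ↔ j = q ∧ k = q := by
      constructor
      · intro hd
        by_contra hc
        exact hndvd _ (by omega) (by omega) hd
      · rintro ⟨rfl, rfl⟩
        rw [hσo]; push_cast; exact ⟨1, by ring⟩
    have e2 : (orderOf σ : ℤ) ∣ k - j ↔ j = k := by
      constructor
      · intro hd
        have := Int.eq_zero_of_abs_lt_dvd hd (by rw [abs_lt, hσo]; push_cast; omega)
        omega
      · rintro rfl; simp
    simp only [hz, e1, e2] at h5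
    rw [← add_sum_erase _ _ hoB, hzo j h1 (by omega), hzo k h3 (by omega)] at h5
    apply Int.cast_injective (α := ℂ)
    push_cast at h5 ⊢
    linear_combination h5
  have hdeg : ∀ j : ℤ, 0 < j → j ≤ q → ∀ ρ : G, ¬ 2 ∣ orderOf ρ →
      ∑ χ ∈ B.erase o, (z j χ : ℂ) * χ ρ = -1 := by
    intro j h1 h2 ρ hρ
    have h5 := V_deg (ζ := ζ) h hM hP j hρ
    simp only [hz] at h5
    rw [← add_sum_erase _ _ hoB, hzo j h1 (by omega)] at h5
    simp only [ho, IrrCharacter.one_apply] at h5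
    push_cast at h5
    linear_combination h5
  have hdeg1 : ∀ j : ℤ, 0 < j → j ≤ q →
      ∑ χ ∈ B.erase o, z j χ * (charDegree χ.1 : ℤ) = -1 := by
    intro j h1 h2
    have h5 := hdeg j h1 h2 1 (by simp)
    simp only [IrrCharacter.apply_one] at h5
    exact_mod_cast h5
  have hb1 : ∀ j : Fin (q - 1), (0 : ℤ) < (j : ℕ) + 1 := fun j => by positivity
  have hb2 : ∀ j : Fin (q - 1), ((j : ℕ) : ℤ) + 1 < q := fun j => by have := j.2; omega
  have hq0' : (0 : ℤ) < q := by exact_mod_cast hq0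
  obtain ⟨c₁, m₁, c₂, m₂, c₃, m₃, leaf, δ₁, δ₂, δ₃, d₁, d₂, d₃, hinj, hleaf, n12, n13, n23, hln, hv,
      hw⟩ := coherence (B.erase o) (fun χ => (charDegree χ.1 : ℤ))
    (fun χ => by exact_mod_cast χ.charDegree_pos) (t := q - 1) (Nat.Even.sub_odd hq0 hq odd_one)
    (fun j => z ((j : ℕ) + 1)) (z q)
    (fun j => by rw [horth _ _ (hb1 j) (hb2 j).le (hb1 j) (hb2 j).le]; simp [(hb2 j).ne])
    (fun j k hjk => by
      rw [horth _ _ (hb1 j) (hb2 j).le (hb1 k) (hb2 k).le]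
      simp [(hb2 j).ne, Fin.val_inj, hjk])
    (by rw [horth _ _ hq0' le_rfl hq0' le_rfl]; simp)
    (fun j => by rw [horth _ _ (hb1 j) (hb2 j).le hq0' le_rfl]; simp [(hb2 j).ne])
    (fun j => hdeg1 _ (hb1 j) (hb2 j).le) (hdeg1 _ hq0' le_rfl)
  have hneo : ∀ χ ∈ B.erase o, (χ : G → ℂ) ≠ fun _ => 1 := fun χ hχ h0 =>
    (mem_erase.1 hχ).1 (Subtype.ext h0)
  have hζq : ζ ^ q = -1 :=
    (hζ.pow (by omega) (mul_comm 2 q)).eq_neg_one_of_two_right
  have hpow : ∀ l : ℕ, ζ ^ (-(l : ℤ) * (q : ℕ)) = (-1) ^ l := fun l => by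
    rw [neg_mul, zpow_neg, mul_comm, zpow_mul, zpow_natCast, zpow_natCast, hζq, ← inv_pow,
      inv_neg, inv_one]
  have hpow1 : ∀ l i : ℕ, ζ ^ (-(l : ℤ) * (i + 1 : ℕ)) = (ζ ^ ((i + 1) * l))⁻¹ := fun l i => by
    rw [neg_mul, zpow_neg, ← zpow_natCast, Nat.cast_mul, mul_comm]
  have hpow2 : ∀ (l : ℕ) (i : Fin (q - 1)), ζ ^ (-(l : ℤ) * (2 * q - (i + 1) : ℕ)) =
      ζ ^ (((i : ℕ) + 1) * l) := fun l i => by
    have := i.2
    rw [Nat.cast_sub (by omega), mul_sub, zpow_sub₀ hz0, mul_comm, zpow_mul, zpow_natCast,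
      hζ.pow_eq_one, one_zpow, hpow1, one_div, inv_inv]
  have hval : ∀ (χ : IrrCharacter G) (l : ℕ), 0 < l → l < 2 * q → χ (σ ^ l) =
      -(z q χ * (-1) ^ l + ∑ i : Fin (q - 1), z ((i : ℕ) + 1) χ *
        (ζ ^ (((i : ℕ) + 1) * l) + (ζ ^ (((i : ℕ) + 1) * l))⁻¹)) := by
    intro χ l h1 h2
    have h3 := V_inv hζ' χ.1 h1 (hσo ▸ h2)
    rw [hσo, split_sum hq0, Nat.cast_zero, V_zero, zero_mul, zero_add, hpow, hz] at h3
    refine h3.trans ?_
    congr 2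
    refine sum_congr rfl fun i _ => ?_
    have := i.2
    have h4 := V_neg hζ' ((i : ℕ) + 1) χ fun l => h.conj_irr_apply χ (pow_mem (mem_zpowers σ) l)
    rw [hσo] at h4
    rw [hpow1, hpow2, Nat.cast_sub (by omega)]
    push_cast at h4 ⊢
    rw [h4, hz]; ring
  have hid : ∀ l : ℕ, 0 < l → l < 2 * q → (-1 : ℂ) ^ l + ∑ i : Fin (q - 1),
      (ζ ^ (((i : ℕ) + 1) * l) + (ζ ^ (((i : ℕ) + 1) * l))⁻¹) = -1 := by
    intro l h1 h2
    have h3 := hval o l h1 h2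
    simp only [hzo _ hq0' (by omega), fun i => hzo _ (hb1 i) (by have := hb2 i; omega),
      Int.cast_one, one_mul] at h3
    rw [ho, IrrCharacter.one_apply] at h3
    linear_combination h3
  have hBeq : ∀ χ, χ ∈ B ↔ χ = o ∨ χ = c₁ ∨ χ = c₂ ∨ χ = c₃ ∨ ∃ j, χ = leaf j := by
    intro χ
    constructor
    · intro hχ
      by_contra hc
      push Not at hc
      obtain ⟨e0, e1, e2, e3, e4⟩ := hc
      have hχ' : χ ∈ B.erase o := mem_erase.2 ⟨e0, hχ⟩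
      refine h.irr_apply_ne_zero hM hP hi hJ hJ2 (mem_filter.1 hχ).2 ?_
      rw [hval χ q hq0 (by omega), hw χ hχ']
      simp [fun i => hv i χ hχ', e1, e2, e3, e4]
    · rintro (rfl | rfl | rfl | rfl | ⟨j, rfl⟩)
      · exact hoB
      · exact mem_of_mem_erase m₁
      · exact mem_of_mem_erase m₂
      · exact mem_of_mem_erase m₃
      · exact mem_of_mem_erase (hleaf j)
  refine ⟨?_, c₁, c₂, c₃, leaf, δ₁, δ₂, δ₃, d₁, d₂, d₃, hinj, hneo _ m₁, hneo _ m₂, hneo _ m₃,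
    n12, n13, n23, fun j => ⟨(hln j).1, (hln j).2.1, (hln j).2.2, hneo _ (hleaf j)⟩, ?_,
    fun l h1 h2 => ⟨?_, ?_, ?_, fun j => ?_⟩, fun ρ hρ j => ?_⟩
  · have e : B = insert o (insert c₁ (insert c₂ (insert c₃ (univ.image leaf)))) := by
      ext χ
      simp [hBeq, eq_comm]
    have e' : Nat.card (principalBlock M G) = B.card := by
      rw [Nat.card_eq_fintype_card, Fintype.card_subtype]
    have o1 := (mem_erase.1 m₁).1
    have o2 := (mem_erase.1 m₂).1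
    have o3 := (mem_erase.1 m₃).1
    rw [e', e, card_insert_of_notMem (by
        simp [o1.symm, o2.symm, o3.symm, fun j => (mem_erase.1 (hleaf j)).1]),
      card_insert_of_notMem (by simp [n12, n13, fun j => (hln j).1]),
      card_insert_of_notMem (by simp [n23, fun j => (hln j).2.1]),
      card_insert_of_notMem (by simp [fun j => (hln j).2.2]), card_image_of_injective _ hinj,
      card_univ, Fintype.card_fin]
    omega
  · ext χ
    have := hBeq χ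
    simp only [hB, mem_filter, mem_univ, true_and] at this
    rw [this, Set.mem_setOf_eq]
    exact or_congr_left ⟨fun h0 => h0 ▸ rfl, fun h0 => Subtype.ext h0⟩
  · rw [hval c₁ l h1 h2, hw c₁ m₁]
    simp only [fun i => hv i c₁ m₁, n12, n13, fun j => (hln j).1.symm, if_true, if_false, add_zero,
      sub_zero, ← mul_sum]
    linear_combination (-δ₁ : ℂ) * hid l h1 h2
  · rw [hval c₂ l h1 h2, hw c₂ m₂]
    simp [fun i => hv i c₂ m₂, n12.symm, n23, fun j => (hln j).2.1.symm, pow_succ]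
  · rw [hval c₃ l h1 h2, hw c₃ m₃]
    simp [fun i => hv i c₃ m₃, n13.symm, n23.symm, fun j => (hln j).2.2.symm, pow_succ]
  · rw [hval _ l h1 h2, hw _ (hleaf j)]
    simp [fun i => hv i _ (hleaf j), (hln j).1, (hln j).2.1, (hln j).2.2, hinj.eq_iff]
  · have h1 := hdeg _ (hb1 j) (hb2 j).le ρ hρ.not_two_dvd_nat
    have h2 := hdeg _ hq0' le_rfl ρ hρ.not_two_dvd_nat
    rw [sum_congr rfl fun χ hχ => by rw [hv j χ hχ]] at h1
    rw [sum_congr rfl fun χ hχ => by rw [hw χ hχ]] at h2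
    simp only [Int.cast_sub, Int.cast_add, Int.cast_ite, Int.cast_zero, sub_mul, add_mul, ite_mul,
      zero_mul, sum_sub_distrib, sum_add_distrib, sum_ite_eq', m₁, m₂, m₃, hleaf j, if_true] at h1 h2
    exact ⟨by linear_combination h2, by linear_combination h1⟩

end

/-- The principal 2-block of a group with dihedral Sylow 2-subgroups. Let G be a finite group whose Sylow 2-subgroup P is dihedral of order 2^n ≥ 8, let σ be an element of P of order 2^(n−1), ζ a primitive 2^(n−1)-th root of unity, and M a maximal ideal of the algebraic integers containing 2. Then the principal 2-block consists of exactly 3 + 2^(n−2) irreducible characters, which can be labelled 1, χ₁, χ₂, χ₃ and χ^(j) for 1 ≤ j ≤ 2^(n−2) − 1 (all distinct), with signs δ₁, δ₂, δ₃ such that for 0 < λ < 2^(n−1): χ₁(σ^λ) = δ₁, χ₂(σ^λ) = δ₂(−1)^(λ+1), χ₃(σ^λ) = δ₃(−1)^(λ+1) and χ^(j)(σ^λ) = δ₁(ζ^(jλ) + ζ^(−jλ)); and for every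 element ρ of odd order and every j: 1 + δ₁χ₁(ρ) = −δ₂χ₂(ρ) − δ₃χ₃(ρ) = δ₁χ^(j)(ρ). -/
theorem result {G : Type*} [Group G] [Finite G] (M : Ideal Cfsg.AlgInt) (hM : Cfsg.IsPModular 2 M) (n : ℕ) (hn : 3 ≤ n) (P : Sylow 2 G) (hP : Nonempty ((P : Subgroup G) ≃* DihedralGroup (2 ^ (n - 1)))) (σ : G) (hσ : σ ∈ (P : Subgroup G)) (hσo : orderOf σ = 2 ^ (n - 1)) (ζ : ℂ) (hζ : IsPrimitiveRoot ζ (2 ^ (n - 1))) : Nat.card (Cfsg.principalBlock M G) = 3 + 2 ^ (n - 2) ∧ ∃ (χ₁ χ₂ χ₃ : Cfsg.IrrCharacter G) (χ' : Fin (2 ^ (n - 2) - 1) → Cfsg.IrrCharacter G) (δ₁ δ₂ δ₃ : ℤ), (δ₁ = 1 ∨ δ₁ = -1) ∧ (δ₂ = 1 ∨ δ₂ = -1) ∧ (δ₃ = 1 ∨ δ₃ = -1) ∧ Function.Injective χ' ∧ (χ₁ : G → ℂ) ≠ (fun _ => 1) ∧ (χ₂ : G → ℂ) ≠ (fun _ => 1) ∧ (χ₃ : G → ℂ) ≠ (fun _ => 1) ∧ χ₁ ≠ χ₂ ∧ χ₁ ≠ χ₃ ∧ χ₂ ≠ χ₃ ∧ (∀ j, χ' j ≠ χ₁ ∧ χ' j ≠ χ₂ ∧ χ' j ≠ χ₃ ∧ (χ' j : G → ℂ) ≠ (fun _ => 1)) ∧ Cfsg.principalBlock M G = {χ : Cfsg.IrrCharacter G | (χ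 : G → ℂ) = (fun _ => 1) ∨ χ = χ₁ ∨ χ = χ₂ ∨ χ = χ₃ ∨ ∃ j, χ = χ' j} ∧ (∀ l : ℕ, 0 < l → l < 2 ^ (n - 1) → (χ₁ : G → ℂ) (σ ^ l) = δ₁ ∧ (χ₂ : G → ℂ) (σ ^ l) = δ₂ * (-1) ^ (l + 1) ∧ (χ₃ : G → ℂ) (σ ^ l) = δ₃ * (-1) ^ (l + 1) ∧ ∀ j : Fin (2 ^ (n - 2) - 1), (χ' j : G → ℂ) (σ ^ l) = δ₁ * (ζ ^ (((j : ℕ) + 1) * l) + (ζ ^ (((j : ℕ) + 1) * l))⁻¹)) ∧ ∀ ρ : G, Odd (orderOf ρ) → ∀ j : Fin (2 ^ (n - 2) - 1), 1 + δ₁ * (χ₁ : G → ℂ) ρ = -δ₂ * (χ₂ : G → ℂ) ρ - δ₃ * (χ₃ : G → ℂ) ρ ∧ 1 + δ₁ * (χ₁ : G → ℂ) ρ = δ₁ * (χ' j : G → ℂ) ρ := by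
  obtain ⟨e⟩ := hP
  have h1 : 2 ^ (n - 1) = 2 * 2 ^ (n - 2) := by
    rw [← pow_succ']; congr 1; omega
  have h2 : 2 < 2 ^ (n - 1) :=
    lt_of_lt_of_le (by norm_num) (Nat.pow_le_pow_right two_pos (by omega : 2 ≤ n - 1))
  obtain ⟨τ, h⟩ := exists_isDihPair_of_equiv h2 e hσ hσo
  rw [h1] at hσo hζ ⊢
  exact main h hM P.isPGroup' P.not_dvd_index (Nat.even_pow.2 ⟨even_two, by omega⟩)
    (by positivity) hσo hζ

end Cfsg.Agent.S4481
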