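import Cfsg.Statements.S4482
import Cfsg.Agent.S4481

set_option autoImplicit false
open Cfsg

namespace Cfsg.Agent.S4482

open Subgroup in
theorem isDihPair_of_closure {G : Type*} [Group G] [Finite G] {P : Subgroup G} {σ τ : G}
    (hσo : 2 < orderOf σ) (hτ : τ * τ = 1) (hrel : τ * σ * τ⁻¹ = σ⁻¹)
    (hgen : closure ({σ, τ} : Set G) = P) : IsDihPair P σ τ := by
  have hi : τ⁻¹ = τ := inv_eq_of_mul_eq_one_right hτ
  have hc : ∀ a ∈ zpowers σ, τ * a * τ = a⁻¹ := by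
    intro a ha
    obtain ⟨k, rfl⟩ := mem_zpowers_iff.1 ha
    rw [← inv_zpow, ← hrel, conj_zpow, hi]
  refine ⟨hgen ▸ subset_closure (by simp), hgen ▸ subset_closure (by simp), hτ, hrel, ?_, ?_⟩
  · intro h
    obtain ⟨k, rfl⟩ := mem_zpowers_iff.1 h
    rw [((Commute.refl σ).zpow_left k).eq, mul_inv_cancel_right, eq_inv_iff_mul_eq_one,
      ← pow_two] at hrel
    have := Nat.le_of_dvd two_pos (orderOf_dvd_of_pow_eq_one hrel)
    omega
  · intro x hx
    rw [← hgen] at hx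
    induction hx using closure_induction with
    | mem x hx =>
      rcases hx with rfl | rfl
      · exact Or.inl (mem_zpowers _)
      · exact Or.inr (hτ ▸ one_mem _)
    | one => exact Or.inl (one_mem _)
    | mul x y _ _ hx hy =>
      rcases hx with hx | hx <;> rcases hy with hy | hy
      · exact Or.inl (mul_mem hx hy)
      · exact Or.inr (mul_assoc x y τ ▸ mul_mem hx hy)
      · refine Or.inr ?_
        have : x * y * τ = x * τ * y⁻¹ := by
          rw [← hc y hy, ← mul_assoc, ← mul_assoc, mul_assoc x τ τ, hτ, mul_one]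
        exact this ▸ mul_mem hx (inv_mem hy)
      · refine Or.inl ?_
        have : x * y = x * τ * (y * τ)⁻¹ := by
          rw [← hc _ hy, mul_assoc τ, mul_assoc y, hτ, mul_one, ← mul_assoc, mul_assoc x, hτ,
            mul_one]
        exact this ▸ mul_mem hx (inv_mem hy)
    | inv x _ hx =>
      rcases hx with hx | hx
      · exact Or.inl (inv_mem hx)
      · refine Or.inr ?_
        have : x⁻¹ * τ = x * τ := by
          have := hc _ (inv_mem hx)
          rw [inv_inv, mul_inv_rev, hi, ← mul_assoc, hτ, one_mul] at this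
          exact this
        exact this ▸ hx

/-- An order formula for groups with dihedral Sylow 2-subgroups and one class of involutions. Let G be a finite group whose Sylow 2-subgroup P = ⟨σ, τ⟩ is dihedral of order 2^n ≥ 8 (σ of order 2^(n−1), τ an involution inverting σ), let J be the central involution σ^(2^(n−2)), and suppose J, τ and στ are conjugate in G. Fix M over 2 and let χ₁ be an irreducible character in the principal 2-block taking one constant value δ₁ = ±1 at every non-identity power of σ, with χ₁ ≠ 1. Then, with x₁ = χ₁(1) and c(·) denoting orders of centralizers, x₁ ≠ δ₁ and #G · (x₁ − δ₁)² = 2·x₁(x₁ + δ₁)·c(J)³·(1/c(J, τ) + 1/c(J, στ))², where c(J, y) is the order of the joint centralizer of J and y. -/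
theorem result {G : Type*} [Group G] [Finite G] (M : Ideal Cfsg.AlgInt) (hM : Cfsg.IsPModular 2 M) (n : ℕ) (hn : 3 ≤ n) (P : Sylow 2 G) (σ τ : G) (hσ : σ ∈ (P : Subgroup G)) (hτ : τ ∈ (P : Subgroup G)) (hσo : orderOf σ = 2 ^ (n - 1)) (hτo : orderOf τ = 2) (hrel : τ * σ * τ⁻¹ = σ⁻¹) (hgen : Subgroup.closure ({σ, τ} : Set G) = (P : Subgroup G)) (hconj : IsConj (σ ^ (2 ^ (n - 2))) τ ∧ IsConj (σ ^ (2 ^ (n - 2))) (σ * τ)) (χ₁ : Cfsg.IrrCharacter G) (hχ₁ : χ₁ ∈ Cfsg.principalBlock M G) (h1 : (χ₁ : G → ℂ) ≠ (fun _ => 1)) (δ₁ : ℤ) (hδ₁ : δ₁ = 1 ∨ δ₁ = -1) (hval : ∀ l : ℕ, 0 < l → l < 2 ^ (n - 1) → (χ₁ : G → ℂ) (σ ^ l) = δ₁) : (Cfsg.charDegree (χ₁ : G → ℂ) : ℤ) ≠ δ₁ ∧ (Nat.card G : ℚ) * ((Cfsg.charDegree (χ₁ : G → ℂ) : ℚ) - δ₁) ^ 2 = 2 * (Cfsg.charDegree (χ₁ : G → ℂ) : ℚ) * ((Cfsg.charDegree (χ₁ : G → ℂ) : ℚ) + δ₁) * (Nat.card (Subgroup.centralizer ({σ ^ (2 ^ (n - 2))} : Set G)) : ℚ) ^ 3 * (1 / (Nat.card (Subgroup.centralizer ({σ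 ^ (2 ^ (n - 2)), τ} : Set G)) : ℚ) + 1 / (Nat.card (Subgroup.centralizer ({σ ^ (2 ^ (n - 2)), σ * τ} : Set G)) : ℚ)) ^ 2 := by
  classical
  haveI := Fintype.ofFinite G
  have h1' : 2 ^ (n - 1) = 2 * 2 ^ (n - 2) := by
    rw [← pow_succ']; congr 1; omega
  have hq2 : 2 ≤ 2 ^ (n - 2) :=
    le_trans (by norm_num) (Nat.pow_le_pow_right two_pos (by omega : 1 ≤ n - 2))
  have hqe : Even (2 ^ (n - 2)) := Nat.even_pow.2 ⟨even_two, by omega⟩
  rw [h1'] at hσo hval
  generalize 2 ^ (n - 2) = q at *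
  have h := isDihPair_of_closure (by omega) (mul_self_of_orderOf_eq_two hτo) hrel hgen
  have hζ := isPrimitiveRoot_exp_nat (n := 2 * q) (by omega)
  generalize Complex.exp (2 * Real.pi * Complex.I / ((2 * q : ℕ) : ℂ)) = ζ at hζ
  obtain ⟨-, c₁, c₂, c₃, χ', δ, δ₂, δ₃, d₁, d₂, d₃, -, -, -, -, -, -, -, hne, hB, hv, hρ⟩ :=
    S4481.main h hM P.isPGroup' P.not_dvd_index hqe (by omega) hσo hζ
  have hJ : σ ^ q ∈ Subgroup.zpowers σ := pow_mem (Subgroup.mem_zpowers σ) q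
  have hJ2 : orderOf (σ ^ q) = 2 := by
    rw [orderOf_pow_of_dvd (by omega) (hσo ▸ Dvd.intro_left 2 rfl), hσo,
      Nat.mul_div_cancel _ (by omega)]
  have hζq : ζ ^ q = -1 := (hζ.pow (by omega) (mul_comm 2 q)).eq_neg_one_of_two_right
  have hδ0 : (δ₁ : ℂ) ≠ 0 := by rcases hδ₁ with h | h <;> simp [h]
  obtain rfl : χ₁ = c₁ := by
    rw [hB] at hχ₁
    have a1 := hval 1 one_pos (by omega)
    have a2 := hval 2 two_pos (by omega)
    rcases hχ₁ with h0 | h0 | h0 | h0 | ⟨j, h0⟩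
    · exact absurd h0 h1
    · exact h0
    · rw [h0, (hv _ (by omega) (by omega)).2.1] at a1 a2
      exact absurd (by linear_combination -(a1 + a2) / 2) hδ0
    · rw [h0, (hv _ (by omega) (by omega)).2.2.1] at a1 a2
      exact absurd (by linear_combination -(a1 + a2) / 2) hδ0
    · have a3 := hval q (by omega) (by omega)
      rw [h0, (hv _ (by omega) (by omega)).2.2.2 j, mul_comm _ q, pow_mul, hζq] at a3
      rcases neg_one_pow_eq_or ℂ ((j : ℕ) + 1) with e | e <;> rw [e] at a3 <;>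
        rcases d₁ with rfl | rfl <;> rcases hδ₁ with rfl | rfl <;> norm_num at a3
  obtain rfl : δ₁ = δ := by
    have := (hval 1 one_pos (by omega)).symm.trans (hv 1 one_pos (by omega)).1
    exact_mod_cast this
  have hδ2 : (δ₁ : ℂ) * δ₁ = 1 := by rcases hδ₁ with h | h <;> simp [h]
  let j : Fin (q - 1) := ⟨0, by omega⟩
  set ψ := χ' j with hψ
  have hψB : ψ ∈ principalBlock M G := by rw [hB]; simp [hψ]
  set o := IrrCharacter.one G with ho
  let θ : G → ℂ := o.1 + (δ₁ : ℂ) • χ₁.1 - (δ₁ : ℂ) • ψ.1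
  have hθ : ∀ g, θ g = 1 + δ₁ * χ₁ g - δ₁ * ψ g := fun g => rfl
  have hθc : IsClassFunction G θ :=
    (o.isClassFunction.add (χ₁.isClassFunction.smul _)).sub (ψ.isClassFunction.smul _)
  have hθ0 : ∀ g, ¬ 2 ∣ orderOf g → θ g = 0 := fun g hg => by
    rw [hθ, (hρ g (Nat.odd_iff.2 (Nat.two_dvd_ne_zero.1 hg)) j).2, sub_self]
  have hone : ∀ t, orderOf t = 2 → IsConj (σ ^ q) t := by
    intro t ht
    obtain ⟨x, hx⟩ := (isPElt_two_of_orderOf ht).exists_conj_mem P
    refine IsConj.trans ?_ (isConj_iff.2 ⟨x, rfl⟩ : IsConj t _).symm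
    by_cases hA : x * t * x⁻¹ ∈ Subgroup.zpowers σ
    · rw [eq_of_orderOf_eq_two_of_mem_zpowers hA hJ (by rw [orderOf_conj_eq, ht]) hJ2]
    · obtain ⟨a, -, ha | ha⟩ := h.exists_conj_eq hx hA
      · exact hconj.1.trans (isConj_iff.2 ⟨a, ha⟩)
      · exact hconj.2.trans (isConj_iff.2 ⟨a, ha⟩)
  have hθ2 : ∀ g, θ g = θ (pPart 2 g) := by
    intro g
    by_cases hg : IsPRegular 2 g
    · rw [hθ0 g hg, pPart_eq_one_iff.2 hg, hθ0 1 (by simp)]
    · rw [hθ, hθ, h.irr_apply_eq_pPart hM P.isPGroup' P.not_dvd_index hJ hJ2 hone hχ₁ hg,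
        h.irr_apply_eq_pPart hM P.isPGroup' P.not_dvd_index hJ hJ2 hone hψB hg]
  have hθσ : ∀ l : ℕ, θ (σ ^ l) = 2 - ζ ^ l - (ζ ^ l)⁻¹ := by
    intro l
    rw [← pow_mod_orderOf, hσo, ← Nat.mod_add_div l (2 * q), pow_add ζ, pow_mul ζ, hζ.pow_eq_one,
      one_pow, mul_one, Nat.add_mul_mod_self_left, Nat.mod_mod]
    have hl := Nat.mod_lt l (by omega : 0 < 2 * q)
    generalize l % (2 * q) = k at hl
    rcases Nat.eq_zero_or_pos k with rfl | hk
    · rw [pow_zero, hθ0 1 (by simp)]; norm_num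
    · rw [hθ, (hv k hk hl).1, (hv k hk hl).2.2.2 j]
      simp only [j, zero_add, one_mul]
      linear_combination (1 - ζ ^ k - (ζ ^ k)⁻¹) * hδ2
  have hζ2 : ζ ^ 2 ≠ 1 := hζ.pow_ne_one_of_pos_of_lt two_ne_zero (by omega)
  have hg1 : ∑ i ∈ Finset.range q, (ζ ^ 2) ^ i = 0 := by
    rw [S4481.geom (by rw [← pow_mul, hζ.pow_eq_one]), if_neg hζ2]
  have hg2 : ∑ i ∈ Finset.range q, ((ζ ^ 2)⁻¹) ^ i = 0 := by
    rw [S4481.geom (by rw [inv_pow, ← pow_mul, hζ.pow_eq_one, inv_one]), if_neg (by simpa using hζ2)]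
  have key := h.sum_pairs P.isPGroup' P.not_dvd_index hJ hJ2 hone hθc (hθ0 1 (by simp)) hθ2
    (Or.inr rfl) (N := q) (by omega) (c := 2) (fun a ha => by
      obtain ⟨k, -, rfl⟩ := Finset.mem_image.1 (mem_zpowers_iff_mem_range_orderOf.1 ha)
      simp only [← pow_mul, ← pow_add, hθσ]
      simp only [pow_add, pow_mul, mul_inv, ← inv_pow (ζ ^ 2), Finset.sum_sub_distrib,
        ← Finset.sum_mul, hg1, hg2]
      simp)
  rw [hθc.sum_class_mul_class] at key
  have n1 : o ≠ χ₁ := fun h0 => h1 (h0 ▸ rfl)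
  have n2 : o ≠ ψ := fun h0 => (hne j).2.2.2 (hψ ▸ h0 ▸ rfl)
  have n3 : χ₁ ≠ ψ := (hne j).1.symm
  simp only [θ, ip_sub_left, ip_add_left, ip_smul_left, IrrCharacter.ip_eq, sub_mul, add_mul,
    mul_ite, ite_mul, mul_one, mul_zero, zero_mul, one_mul, Finset.sum_sub_distrib,
    Finset.sum_add_distrib, Finset.sum_ite_eq, Finset.mem_univ, if_true] at key
  have v1 := (hv q (by omega) (by omega)).1
  have v2 := (hv q (by omega) (by omega)).2.2.2 j
  have v3 := (hρ 1 (by simp) j).2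
  simp only [j, zero_add, one_mul, hζq] at v2
  have v4 : ψ 1 = χ₁ 1 + δ₁ := by linear_combination (-δ₁ : ℂ) * v3 + (χ₁ 1 - ψ 1) * hδ2
  have v5 := ψ.apply_one_ne_zero
  rw [v1, v2, v4, χ₁.apply_one] at key
  rw [v4, χ₁.apply_one] at v5
  simp only [ho, IrrCharacter.one_apply] at key
  have p1 := χ₁.charDegree_pos
  have hi := (Subgroup.centralizer ({σ ^ q} : Set G)).card_mul_index
  have hr1 := card_mul_relIndex (Subgroup.centralizer_le (by simp) :
    Subgroup.centralizer ({σ ^ q, τ} : Set G) ≤ Subgroup.centralizer {σ ^ q})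
  have hr2 := card_mul_relIndex (Subgroup.centralizer_le (by simp) :
    Subgroup.centralizer ({σ ^ q, σ * τ} : Set G) ≤ Subgroup.centralizer {σ ^ q})
  have p2 : 0 < Nat.card (Subgroup.centralizer ({σ ^ q, τ} : Set G)) := Nat.card_pos
  have p3 : 0 < Nat.card (Subgroup.centralizer ({σ ^ q, σ * τ} : Set G)) := Nat.card_pos
  have p4 : 0 < Nat.card (Subgroup.centralizer ({σ ^ q} : Set G)) := Nat.card_pos
  have p5 := index_pos (Subgroup.centralizer ({σ ^ q} : Set G))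
  generalize charDegree χ₁.1 = x at *
  generalize (Subgroup.centralizer ({σ ^ q, τ} : Set G)).relIndex
    (Subgroup.centralizer ({σ ^ q} : Set G)) = r₁ at *
  generalize (Subgroup.centralizer ({σ ^ q, σ * τ} : Set G)).relIndex
    (Subgroup.centralizer ({σ ^ q} : Set G)) = r₂ at *
  generalize Nat.card (Subgroup.centralizer ({σ ^ q, τ} : Set G)) = e₁ at *
  generalize Nat.card (Subgroup.centralizer ({σ ^ q, σ * τ} : Set G)) = e₂ at *
  generalize (Subgroup.centralizer ({σ ^ q} : Set G)).index = i at *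
  generalize Nat.card (Subgroup.centralizer ({σ ^ q} : Set G)) = c at *
  generalize Nat.card G = g at *
  have x0 : (x : ℂ) ≠ 0 := by exact_mod_cast p1.ne'
  have i0 : (i : ℂ) ≠ 0 := by exact_mod_cast p5.ne'
  have k2 : (i : ℂ) * ((x : ℂ) - δ₁) ^ 2 = 2 * x * (x + δ₁) * (r₁ + r₂) ^ 2 := by
    rcases hδ₁ with rfl | rfl <;> push_cast at key v5 ⊢ <;> field_simp at key <;>
      linear_combination key
  have k3 : (i : ℚ) * ((x : ℚ) - δ₁) ^ 2 = 2 * x * (x + δ₁) * (r₁ + r₂) ^ 2 := by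
    apply Rat.cast_injective (α := ℂ)
    push_cast
    exact k2
  have f1 : (r₁ : ℚ) = c / e₁ := by
    rw [← hr1]; push_cast; field_simp
  have f2 : (r₂ : ℚ) = c / e₂ := by
    rw [← hr2]; push_cast; field_simp
  refine ⟨fun h0 => ?_, ?_⟩
  · have h0' : (x : ℚ) = δ₁ := by exact_mod_cast h0
    rw [← h0', sub_self, f1, f2] at k3
    have : (0 : ℚ) < 2 * x * (x + x) * (c / e₁ + c / e₂) ^ 2 := by positivity
    rw [← k3] at this
    simp at this
  · rw [← hi]
    push_cast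
    rw [f1, f2] at k3
    linear_combination (c : ℚ) * k3

end Cfsg.Agent.S4482
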