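import Cfsg.Statements.S4476
import Cfsg.Agent.Char.FrobSchur
import Cfsg.Agent.Char.BrauerPerm
import Cfsg.Agent.Char.Abelian

set_option autoImplicit false
open Cfsg

namespace Cfsg.Agent.S4476

/-- Let G be a finite group of even order g with exactly t involutions, and put α = (g − 1)/t (a rational number). Then (a) some non-identity element x of G has at most α² conjugates; and (b) some non-principal real-valued irreducible character of G has degree at most α. -/
theorem result {G : Type*} [Group G] [Fintype G] (heven : Even (Nat.card G)) (t : ℕ) (ht : Nat.card {x : G // orderOf x = 2} = t) : (∃ x : G, x ≠ 1 ∧ ((Subgroup.centralizer ({x} : Set G)).index : ℚ) ≤ (((Nat.card G : ℚ) - 1) / t) ^ 2) ∧ ∃ χ : Cfsg.IrrCharacter G, (χ : G → ℂ) ≠ (fun _ => 1) ∧ (∀ g : G, ((χ : G → ℂ) g).im = 0) ∧ (Cfsg.charDegree (χ : G → ℂ) : ℚ) ≤ ((Nat.card G : ℚ) - 1) / t := by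
  classical
  have : Fact (Nat.Prime 2) := ⟨Nat.prime_two⟩
  obtain ⟨x0, hx0⟩ := exists_prime_orderOf_dvd_card' (G := G) 2 heven.two_dvd
  have htpos : 0 < t := by
    rw [← ht]
    exact Nat.card_pos_iff.2 ⟨⟨⟨x0, hx0⟩⟩, inferInstance⟩
  have hx1 : x0 ≠ 1 := by rintro rfl; simp at hx0
  have hg : (1 : ℚ) < Nat.card G := by
    have : Nontrivial G := ⟨⟨x0, 1, hx1⟩⟩
    exact_mod_cast Finite.one_lt_card
  have ht' : (0 : ℚ) < t := by exact_mod_cast htpos
  let T : Finset (IrrCharacter G) := Finset.univ.erase (IrrCharacter.one G)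
  let S : Finset (IrrCharacter G) := T.filter fun χ => ∀ g, (χ g).im = 0
  let d : IrrCharacter G → ℚ := fun χ => charDegree χ.1
  have hd : ∀ χ, 0 < d χ := fun χ => by
    simp only [d]; exact_mod_cast χ.charDegree_pos
  have h1 : (t : ℚ) ≤ ∑ χ ∈ S, d χ := by
    have h := card_involutions_add_one_eq_sum (G := G)
    rw [ht, ← Finset.add_sum_erase _ _ (Finset.mem_univ (IrrCharacter.one G)),
      IrrCharacter.fsInt_one, IrrCharacter.charDegree_one] at h
    have h' : (t : ℚ) = ∑ χ ∈ T, (χ.fsInt : ℚ) * d χ := by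
      have : (t : ℤ) = ∑ χ ∈ T, χ.fsInt * (charDegree χ.1 : ℤ) := by
        simp only [T]; omega
      simp only [d]
      exact_mod_cast this
    rw [h', Finset.sum_filter]
    refine Finset.sum_le_sum fun χ _ => ?_
    split_ifs with hr
    · rcases χ.fsInt_cases with h | h | h <;> simp [h, (hd χ).le]
    · have : χ.fsInt = 0 := by
        by_contra h0
        exact hr (χ.fsInt_ne_zero_iff.1 h0)
      simp [this]
  have h2 : ∑ χ ∈ T, d χ ^ 2 = Nat.card G - 1 := by
    have h := sum_charDegree_sq (G := G)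
    rw [← Finset.add_sum_erase _ _ (Finset.mem_univ (IrrCharacter.one G)),
      IrrCharacter.charDegree_one] at h
    rw [← h]
    simp [d, T]
  have hST : S ⊆ T := Finset.filter_subset _ _
  constructor
  · by_contra hall
    push Not at hall
    cases nonempty_fintype (ConjClasses G)
    have h3 := sum_card_centralizer_smul (G := G) (fun _ => (1 : ℕ))
    simp only [smul_eq_mul, mul_one, Finset.sum_const, Finset.card_univ] at h3
    rw [← Finset.add_sum_erase _ _ (Finset.mem_univ (1 : G))] at h3
    have h4 : Nat.card (Subgroup.centralizer ({1} : Set G)) = Nat.card G := by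
      have : Subgroup.centralizer ({1} : Set G) = ⊤ := by
        ext x; simp [Subgroup.mem_centralizer_iff]
      rw [this, Subgroup.card_top]
    have h5 : Fintype.card (ConjClasses G) = T.card + 1 := by
      rw [← Nat.card_eq_fintype_card, ← card_irr_eq_card_conjClasses, Nat.card_eq_fintype_card,
        Finset.card_erase_add_one (Finset.mem_univ _), Finset.card_univ]
    rw [h4, h5] at h3
    have h6 : ∑ x ∈ Finset.univ.erase (1 : G),
        (Nat.card (Subgroup.centralizer ({x} : Set G)) : ℚ) = Nat.card G * T.card := by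
      have : ∑ x ∈ Finset.univ.erase (1 : G),
        Nat.card (Subgroup.centralizer ({x} : Set G)) = Nat.card G * T.card := by
        rw [mul_add] at h3; omega
      exact_mod_cast this
    set α : ℚ := ((Nat.card G : ℚ) - 1) / t with hα
    have h7 : ∑ x ∈ Finset.univ.erase (1 : G),
        (Nat.card (Subgroup.centralizer ({x} : Set G)) : ℚ) * α ^ 2 <
        ∑ x ∈ Finset.univ.erase (1 : G), (Nat.card G : ℚ) := by
      refine Finset.sum_lt_sum_of_nonempty ⟨x0, by simp [hx1]⟩ fun x hx => ?_
      rw [← (Subgroup.centralizer ({x} : Set G)).card_mul_index]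
      push_cast
      exact mul_lt_mul_of_pos_left (hall x (Finset.ne_of_mem_erase hx))
        (by exact_mod_cast Nat.card_pos)
    rw [← Finset.sum_mul, h6, Finset.sum_const,
      Finset.card_erase_of_mem (Finset.mem_univ (1 : G)),
      Finset.card_univ, ← Nat.card_eq_fintype_card, nsmul_eq_mul,
      Nat.cast_sub (by exact_mod_cast hg.le)] at h7
    have h8 : (t : ℚ) ^ 2 ≤ T.card * (Nat.card G - 1) := by
      rw [← h2]
      refine le_trans ?_ (sq_sum_le_card_mul_sum_sq (s := T) (f := d))
      refine pow_le_pow_left₀ ht'.le (h1.trans ?_) 2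
      exact Finset.sum_le_sum_of_subset_of_nonneg hST fun χ _ _ => (hd χ).le
    have h9 : (T.card : ℚ) * α ^ 2 < Nat.card G - 1 := by
      push_cast at h7
      nlinarith
    rw [hα, div_pow, ← mul_div_assoc, div_lt_iff₀ (by positivity)] at h9
    nlinarith
  · by_contra hall
    push Not at hall
    have hS : S.Nonempty := by
      by_contra hS
      rw [Finset.not_nonempty_iff_eq_empty] at hS
      rw [hS, Finset.sum_empty] at h1
      exact absurd h1 (not_le.2 ht')
    have h3 : ∑ χ ∈ S, ((Nat.card G : ℚ) - 1) / t * d χ < ∑ χ ∈ S, d χ ^ 2 := by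
      refine Finset.sum_lt_sum_of_nonempty hS fun χ hχ => ?_
      rw [sq]
      refine mul_lt_mul_of_pos_right (hall χ ?_ (Finset.mem_filter.1 hχ).2) (hd χ)
      intro h
      exact Finset.ne_of_mem_erase (hST hχ) (Subtype.ext h)
    have h4 : ∑ χ ∈ S, d χ ^ 2 ≤ Nat.card G - 1 := by
      rw [← h2]
      exact Finset.sum_le_sum_of_subset_of_nonneg hST fun χ _ _ => sq_nonneg _
    rw [← Finset.mul_sum] at h3
    have h5 : ((Nat.card G : ℚ) - 1) / t * t ≤ ((Nat.card G : ℚ) - 1) / t * ∑ χ ∈ S, d χ :=
      mul_le_mul_of_nonneg_left h1 (div_nonneg (by linarith) ht'.le)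
    rw [div_mul_cancel₀ _ ht'.ne'] at h5
    linarith

end Cfsg.Agent.S4476
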