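import Cfsg.Agent.Rz.P01

/-! Root of the helper library: Mathlib, the definition files in use, and the on-demand lemmas
(equation and congruence lemmas) created once so that no two files create their own copies. -/
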