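import Cfsg.Statements.S4562
import Cfsg.Agent.Fr.Reduce
import Cfsg.Agent.Char.GallagherCore
-- import your own Cfsg.Agent.* helpers here

set_option autoImplicit false
open Cfsg

namespace Cfsg.Agent.S4562

/-- Let χ be an irreducible character of the finite group H that is fully ramified over the normal subgroup Z: the restriction of χ to Z is e times an irreducible character of Z with e ^ 2 equal to the index of Z. If for every prime p with p ^ 6 dividing the index of Z the Sylow p-subgroups of H/Z are commutative, then H/Z is solvable. -/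
theorem result {H : Type*} [Group H] [Finite H] (Z : Subgroup H) [Z.Normal] (χ : Cfsg.IrrCharacter H) (hfr : ∃ (θ : Cfsg.IrrCharacter ↥Z) (e : ℕ), e ^ 2 = Z.index ∧ ∀ z : ↥Z, (χ : H → ℂ) z = (e : ℂ) * (θ : ↥Z → ℂ) z) (hab : ∀ p : ℕ, p.Prime → p ^ 6 ∣ Z.index → ∀ P : Sylow p (H ⧸ Z), IsMulCommutative P) : Group.IsSolvable (H ⧸ Z) := by
  obtain ⟨θ, hθ⟩ := hfr
  have h := (isFullyRamified_subtype_iff Z χ θ).2 hθ
  obtain ⟨c⟩ := nonempty_charCover h.inertia_eq_top
  obtain ⟨β, hβ⟩ := c.exists_rel_of_liesOver_left h.liesOver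
  have hi : Function.Injective c.zEmb := IsNormalEmb.injective
  haveI : c.zEmb.range.Normal := IsNormalEmb.normal_range
  have hfr : IsFullyRamified c.zEmb β c.lamInv := by
    refine isFullyRamified_of_charDegree_sq (hβ.liesOver_right β.apply_one_ne_zero)
      c.inertia_lamInv ?_
    have h1 := h.charDegree_sq
    rw [hβ.charDegree_eq β.isCharacter, mul_pow, mul_comm] at h1
    rw [c.index_zEmb_range, c.charDegree_lamInv, one_pow, mul_one]
    exact Nat.eq_of_mul_eq_mul_right (pow_pos θ.charDegree_pos 2) h1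
  let e : (c.Q ⧸ c.zEmb.range) ≃* H ⧸ Z :=
    c.quotEquiv.trans (QuotientGroup.quotientMulEquivOfEq Z.range_subtype)
  haveI : Group.IsSolvable c.Q := by
    refine Fr.solvable_of_central c.zEmb_range_le_center
      (μ := (c.lam⁻¹ : c.π.ker →* ℂˣ).comp (MonoidHom.ofInjective hi).symm.toMonoidHom) (χ := β)
      (fun a b hab => (MonoidHom.ofInjective hi).symm.injective
        (c.lam_injective (inv_injective hab))) (Fr.mem_over_of_apply ?_)
      (fun g hg => hfr.apply_eq_zero hi hg) fun h6 P => ?_
    · intro a g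
      obtain ⟨z, rfl⟩ := (MonoidHom.ofInjective hi).surjective a
      refine (hβ.apply_zEmb_mul z g).trans ?_
      simp [c.lamInv_apply]
    · rw [c.index_zEmb_range, Z.range_subtype] at h6
      have h1 := hab 2 Nat.prime_two h6 (P.mapSurjective (f := e.toMonoidHom) e.surjective)
      exact ⟨⟨fun a b => Subtype.ext (e.injective ((map_mul e a.1 b.1).trans
        ((congrArg Subtype.val (h1.is_comm.comm ⟨_, a, a.2, rfl⟩ ⟨_, b, b.2, rfl⟩)).trans
        (map_mul e b.1 a.1).symm)))⟩⟩
  exact Group.isSolvable_of_surjective (f := e.toMonoidHom.comp (QuotientGroup.mk' _))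
    (e.surjective.comp (QuotientGroup.mk'_surjective _))

end Cfsg.Agent.S4562
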