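import Cfsg.Statements.S4573
import Cfsg.Agent.Char.MGroup
import Cfsg.Agent.Char.Prod
import Cfsg.Agent.Grp.Basic
-- import your own Cfsg.Agent.* helpers here

set_option autoImplicit false
universe u
open Cfsg

namespace Cfsg.Agent.S4573

theorem ind_extPi {ι : Type*} [Fintype ι] {A B : ι → Type*} [∀ i, Group (A i)] [∀ i, Group (B i)]
    [∀ i, Finite (A i)] [∀ i, Finite (B i)] (f : ∀ i, A i →* B i) (θ : ∀ i, A i → ℂ) :
    ind (MonoidHom.pi fun i => (f i).comp (Pi.evalMonoidHom A i)) (extPi θ) =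
      extPi fun i => ind (f i) (θ i) := by
  refine (ind_isClassFunction _ _).ext_ip (fun g x => ?_) fun χ => ?_
  · exact Finset.prod_congr rfl fun i _ => ind_isClassFunction (f i) (θ i) (g i) (x i)
  obtain ⟨χ, rfl⟩ := χ.exists_pi_eq
  rw [ip_ind_left _ _ (IrrCharacter.isClassFunction _)]
  refine (ip_extPi θ fun i => (χ i).1 ∘ f i).trans (Eq.trans ?_ (ip_extPi _ fun i => (χ i).1).symm)
  exact Finset.prod_congr rfl fun i _ => (ip_ind_left _ _ (χ i).isClassFunction).symm

theorem isMGroup_wreath {M Q : Type u} [Group M] [Finite M] [Group Q] [Finite Q]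
    (hQ : ∀ a b : Q, a * b = b * a) (hM : IsMGroup M) : IsMGroup (M ≀ᵣ Q) := by
  classical
  cases nonempty_fintype Q
  intro χ
  choose L lam hL using hM
  let f : (Q → M) →* M ≀ᵣ Q :=
    { toFun := fun b => ⟨b, 1⟩
      map_one' := rfl
      map_mul' := fun a b => by ext <;> simp }
  have hrange : ∀ w : M ≀ᵣ Q, w ∈ f.range ↔ w.right = 1 := fun w =>
    ⟨by rintro ⟨b, rfl⟩; rfl, fun h => ⟨w.left, by ext <;> simp [f, h]⟩⟩
  haveI : IsNormalEmb f :=
    ⟨fun a b h => congrArg RegularWreathProduct.left h, ⟨fun w hw g => by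
      rw [hrange] at hw ⊢
      simp [hw]⟩⟩
  obtain ⟨θ, hθ⟩ := χ.exists_liesOver_below f
  obtain ⟨φ, rfl⟩ := θ.exists_pi_eq
  obtain ⟨ψ, hψ, hind⟩ := hθ.exists_inertia_ind_eq
  set T := inertia f (IrrCharacter.pi φ) with hT
  have hinl : ∀ w ∈ T, RegularWreathProduct.inl w.right ∈ T := fun w hw => by
    have h1 : RegularWreathProduct.inl w.right = (f w.left)⁻¹ * w := by
      ext <;> simp [f]
    rw [h1]
    exact T.mul_mem (T.inv_mem (map_mem_inertia _ _ _)) hw
  have hφ : ∀ w ∈ T, ∀ x, φ (w.right * x) = φ x := fun w hw => by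
    refine congrFun (IrrCharacter.pi_injective (a₁ := fun x => φ (w.right * x))
      (Subtype.ext (funext fun b => ?_)))
    have h1 := mem_inertia_iff_forall.1 (hinl w hw) b (fun x => b (w.right⁻¹ * x))
      (by ext <;> simp [f])
    refine Eq.trans ?_ h1
    simp only [IrrCharacter.pi_apply]
    exact Fintype.prod_equiv (Equiv.mulLeft w.right) _ _ (by simp)
  let U : Subgroup T :=
    { carrier := {w | ∀ x, w.1.left x ∈ L (φ x)}
      one_mem' := fun x => (L _).one_mem
      mul_mem' := fun {a b} ha hb x => (L _).mul_mem (ha x) (by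
        have := hb (a.1.right⁻¹ * x)
        rwa [show φ (a.1.right⁻¹ * x) = φ x from hφ _ (T.inv_mem a.2) x] at this)
      inv_mem' := fun {a} ha x => (L _).inv_mem (by
        have := ha (a.1.right * x)
        rwa [hφ _ a.2] at this) }
  have hlam : ∀ c c' (h : c = c') m hm hm', lam c ⟨m, hm⟩ = lam c' ⟨m, hm'⟩ := by
    rintro c _ rfl m _ _; rfl
  let Λ : U →* ℂˣ := MonoidHom.mk' (fun w => ∏ x, lam (φ x) ⟨w.1.1.left x, w.2 x⟩) fun a b => by
    rw [← Equiv.prod_comp (Equiv.mulLeft a.1.1.right⁻¹)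
      (fun x => lam (φ x) ⟨b.1.1.left x, b.2 x⟩), ← Finset.prod_mul_distrib]
    refine Finset.prod_congr rfl fun x _ => ?_
    have h1 : φ (a.1.1.right⁻¹ * x) = φ x := hφ _ (T.inv_mem a.1.2) x
    rw [Equiv.coe_mulLeft, hlam _ _ h1 _ _ (h1 ▸ b.2 _), ← map_mul]
    rfl
  let b : (∀ x, L (φ x)) →* (Q → M) :=
    MonoidHom.pi fun x => (L (φ x)).subtype.comp (Pi.evalMonoidHom (fun x => L (φ x)) x)
  let a : (∀ x, L (φ x)) →* U := ((toInertia f _).comp b).codRestrict U fun d x => (d x).2
  have hη : ind U.subtype (fun w => (Λ w : ℂ)) ∘ toInertia f _ = (IrrCharacter.pi φ).1 := by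
    rw [ind_comp_of_pullback U.subtype_injective IsNormalEmb.injective (a := a) (b := b)
      (fun d d' h => funext fun x => Subtype.ext (congrFun h x)) (fun _ => rfl)
      (fun u y h => ⟨fun x => ⟨y x, by
        have := u.2 x
        rwa [show u.1 = toInertia f _ y from h] at this⟩, rfl⟩)
      (fun t => ⟨t.1.left, ⟨⟨_, hinl t t.2⟩, fun x => (L _).one_mem⟩, Subtype.ext (by
        change t.1 = f t.1.left * RegularWreathProduct.inl t.1.right
        ext <;> simp [f])⟩) (isCharacter_linear Λ).isClassFunction]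
    have h1 : (fun w => (Λ w : ℂ)) ∘ a = extPi fun x l => (lam (φ x) l : ℂ) := by
      funext d
      exact Units.coe_prod _ _
    rw [h1, ind_extPi]
    exact congrArg extPi (funext fun x => (hL (φ x)).symm)
  have hc := (isCharacter_linear Λ).ind U.subtype
  obtain ⟨β, -, hβ⟩ := LiesOver.exists_linear_of_commutator_le (f := toInertia f _)
    (χ := ⟨_, hc.isIrr_of_comp _ (hη ▸ (IrrCharacter.pi φ).2)⟩) (by
      rw [commutator_def, Subgroup.commutator_le]
      intro s _ t _
      obtain ⟨y, hy⟩ := (hrange (s.1 * t.1 * s.1⁻¹ * t.1⁻¹)).2 (by simp [hQ s.1.right])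
      exact ⟨y, Subtype.ext hy⟩) (liesOver_of_comp_eq hη) hψ
  rw [← hind]
  refine IsMonomialChar.ind ⟨U, β.comp U.subtype * Λ, ?_⟩ T.subtype_injective
  rw [hβ]
  exact (ind_comp_mul _ _ (isCharacter_linear β).isClassFunction).symm

theorem exists_embedding {G M : Type u} [Group G] [Group M] (N : Subgroup G) [N.Normal]
    (i : N →* M) (hi : Function.Injective i) :
    ∃ f : G →* M ≀ᵣ (G ⧸ N), Function.Injective f := by
  have h : ∀ (g : G) (x : G ⧸ N), x.out⁻¹ * g * ((g : G ⧸ N)⁻¹ * x).out ∈ N := fun g x => by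
    rw [← QuotientGroup.eq_one_iff]
    simp
  refine ⟨MonoidHom.mk' (fun g => ⟨fun x => i ⟨_, h g x⟩, g⟩) fun a b => ?_, ?_⟩
  · ext x
    · simp only [RegularWreathProduct.mul_left, Pi.mul_apply, ← map_mul]
      congr 1
      simp [Subtype.ext_iff, mul_assoc]
    · simp
  · rw [injective_iff_map_eq_one]
    intro g hg
    have h1 : (g : G ⧸ N) = 1 := congrArg RegularWreathProduct.right hg
    have h2 : i ⟨_, h g 1⟩ = 1 := congrFun (congrArg RegularWreathProduct.left hg) 1
    have h3 := congrArg Subtype.val ((map_eq_one_iff i hi).1 h2)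
    simpa [h1, mul_assoc, inv_mul_eq_one] using h3

theorem exists_mgroup (n : ℕ) : ∀ (G : Type u) [Group G] [Finite G] [Group.IsSolvable G],
    Nat.card G = n → ∃ (M : Type u) (_ : Group M) (_ : Finite M), IsMGroup M ∧
      ∃ f : G →* M, Function.Injective f := by
  induction n using Nat.strong_induction_on with
  | _ n ih =>
  intro G _ _ _ hn
  rcases subsingleton_or_nontrivial G with h | h
  · exact ⟨G, _, inferInstance, isMGroup_of_isNilpotent, MonoidHom.id G, Function.injective_id⟩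
  have h1 : commutator G < ⊤ := Group.IsSolvable.commutator_lt_top_of_nontrivial G
  obtain ⟨M, _, _, hM, i, hi⟩ := ih _ (hn ▸ card_lt_of_ne_top h1.ne) (commutator G) rfl
  exact ⟨M ≀ᵣ (G ⧸ commutator G), _, inferInstance,
    isMGroup_wreath (mul_comm (G := Abelianization G)) hM, exists_embedding _ i hi⟩

/-- Every finite solvable group is isomorphic to a subgroup of a finite M-group, a group each of whose irreducible characters is induced from a homomorphism of some subgroup into ℂˣ. -/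
theorem result {G : Type u} [Group G] [Finite G] (hsolv : Group.IsSolvable G) : ∃ (M : Type u) (_ : Group M) (_ : Fintype M), (∀ χ : M → ℂ, Cfsg.IsIrrCharacter M χ → (∃ (H : Subgroup M) (lam : ↥H →* ℂˣ), χ = Cfsg.indFun H (fun h => (lam h : ℂ)))) ∧ ∃ f : G →* M, Function.Injective f := by
  obtain ⟨M, _, _, hM, hf⟩ := exists_mgroup _ G rfl
  cases nonempty_fintype M
  refine ⟨M, _, inferInstance, fun χ hχ => ?_, hf⟩
  simp only [indFun_eq_ind]
  exact hM ⟨χ, hχ⟩

end Cfsg.Agent.S4573
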