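import Cfsg.Statements.S4577
import Cfsg.Agent.Ev.Lift
import Cfsg.Agent.Ev.Free
import Cfsg.Agent.Ev.Nine
import Cfsg.Agent.Ev.NonAb
import Cfsg.Agent.Blk.BrauerFeit
-- import your own Cfsg.Agent.* helpers here

set_option autoImplicit false
open Cfsg

namespace Cfsg.Agent.S4577

open Subgroup GA in
theorem ht_of_comm {G : Type*} [Group G] [Finite G] {M : Ideal AlgInt} {P : Subgroup G}
    {B : Set (IrrCharacter G)} [CharP (ResK M) 2] {e : MonoidAlgebra (ResK M) G}
    (hP : IsMaxPair 2 (blockIdem M B) P e) (hM : IsPModular 2 M) (hB : IsPBlock M B)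
    (hab : P ≤ centralizer (P : Set G)) (h16 : Nat.card P = 16) :
    ∀ χ ∈ B, blockHeight 2 B χ.1 = 0 := by
  letI : CommGroup P := { (inferInstance : Group P) with
    mul_comm := fun a b => Subtype.ext (hab b.2 a a.2) }
  have hJ := hP.not_dvd_card_iAut hM hab
  by_cases h7 : 7 ∣ Nat.card (iAut P e)
  swap
  · rcases small_sixteen hP.pair.isPGroup hJ h16.le fun _ => h7 with h | h | h
    exacts [hP.ht_of_le_three hM hB hab h16 h, hP.ht_of_nine hM hB hab h16 h.2,
      hP.ht_of_free hM hB hab h16 h]
  have h2 : ∀ x : P, x ^ 2 = 1 := fun x => by_contra fun h => absurd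
    (h7.trans (card_dvd_three_of_ne_one hP.pair.isPGroup hJ h16.le h)) (by decide)
  obtain ⟨σ, hσ, h3⟩ := exists_orderOf_eq 7 (by norm_num) h7
  obtain ⟨h4, h5⟩ := card_modEq_of_orderOf' (by norm_num) h3
  have h6 : Nat.card (autFix σ) = 2 := by
    have h7 := card_subgroup_dvd_card (autFix σ)
    rw [h16] at h4 h5 h7
    generalize Nat.card (autFix σ) = k at *
    interval_cases k <;> omega
  obtain ⟨z, hz, hz'⟩ := (Nat.card_eq_two_iff' (1 : autFix σ)).1 h6
  have hz1 : z.1 ≠ 1 := fun h => hz (Subtype.ext h)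
  refine (hP.lift_eight hM hB hab (z := z.1) (fun τ hτ => ?_) (fun x hx => ?_) ?_).2.1
  · have h8 := zpowers_le_stabilizer z.2 _ ((faith_ker hP.pair.isPGroup hJ).mem_zpowers
      (h16 ▸ card_le_card_group _) hσ (mul_mem (mul_mem (inv_mem hτ) hσ) hτ) h3
      (by rw [← h3]; simpa using (MulAut.conj τ⁻¹).orderOf_eq σ))
    exact congrArg Subtype.val (hz' ⟨τ z, by simpa [mem_autFix] using congrArg τ h8⟩ fun h =>
      hz1 ((map_eq_one_iff _ τ.injective).1 (congrArg Subtype.val h)))
  · rw [← sq, show x ^ 2 = 1 from congrArg Subtype.val (h2 ⟨x, hx⟩)]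
    exact one_mem _
  · rw [orderOf_coe, orderOf_eq_prime (h2 _) hz1, h16]

/-- Let G be a finite group, M a maximal ideal of the algebraic integers containing 2, and B a 2-block of G with a defect group D of order 16. For every irreducible character χ in B, 2 raised to the height of χ is at most the index of the centre Z(D) in D, with equality exactly when D is abelian. -/
theorem result {G : Type*} [Group G] [Finite G] (M : Ideal Cfsg.AlgInt) (hM : Cfsg.IsPModular 2 M) (B : Set (Cfsg.IrrCharacter G)) (hB : Cfsg.IsPBlock M B) (D : Subgroup G) (hD : Cfsg.IsDefectGroup 2 M B D) (h16 : Nat.card D = 16) (χ : Cfsg.IrrCharacter G) (hχ : χ ∈ B) :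
    Cfsg.blockHeight 2 B (χ : G → ℂ) ≤ ((Subgroup.center D).index).factorization 2 ∧
      (Cfsg.blockHeight 2 B (χ : G → ℂ) = ((Subgroup.center D).index).factorization 2 ↔ IsMulCommutative D) := by
  have := hM.charP
  obtain ⟨e, hP⟩ := (hB.isBlockIdem hM).exists_isMaxPair ((hB.isDefectGroup_iff hM D).1 hD)
  by_cases hab : IsMulCommutative D
  · have h1 := ht_of_comm hP hM hB (Subgroup.le_centralizer D) h16 χ hχ
    have h2 : Subgroup.center D = ⊤ :=
      (Subgroup.eq_top_iff' _).2 fun x => Subgroup.mem_center_iff.2 fun y => hab.1.1 y x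
    rw [h2, Subgroup.index_top, Nat.factorization_one]
    exact ⟨h1.le, fun _ => hab, fun _ => h1⟩
  suffices h : blockHeight 2 B χ.1 < ((Subgroup.center D).index).factorization 2 from
    ⟨h.le, fun h' => absurd h' h.ne, fun h' => absurd h' hab⟩
  have h1 := (Subgroup.center D).card_mul_index
  have : Nontrivial D := Finite.one_lt_card_iff_nontrivial.1 (by omega)
  have h2 := Finite.one_lt_card_iff_nontrivial.2 hP.pair.isPGroup.center_nontrivial
  have h3 : ¬ (Subgroup.center D).index ∣ 2 := fun h => hab (by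
    have : IsCyclic (D ⧸ Subgroup.center D) := isCyclic_of_card_dvd_prime h
    exact (QuotientGroup.mk' _).isMulCommutative_of_isCyclic_of_ker_le_center
      (QuotientGroup.ker_mk' _).le)
  have h4 := Subgroup.card_subgroup_dvd_card (Subgroup.center D)
  have h5 := Nat.le_of_dvd Nat.card_pos h4
  rw [h16] at h1 h4 h5
  have h6 : Nat.card (Subgroup.center D) = 2 ∨ Nat.card (Subgroup.center D) = 4 := by
    have h7 : (Subgroup.center D).index ≠ 1 := fun h => h3 (h ▸ one_dvd _)
    have h8 : (Subgroup.center D).index ≠ 2 := fun h => h3 h.dvd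
    generalize Nat.card (Subgroup.center D) = k at *
    interval_cases k <;> omega
  rcases h6 with h | h
  · rw [show (Subgroup.center D).index = 2 ^ 3 by rw [h] at h1; omega, Nat.factorization_pow_self Nat.prime_two]
    by_cases h0 : blockHeight 2 B χ.1 = 0
    · omega
    · have h7 := hB.blockHeight_add_two_le hM hχ h0
      have h8 : blockDefect 2 B = 4 :=
        Nat.pow_right_injective le_rfl (show 2 ^ _ = 2 ^ 4 from (hD.card_eq hB hM).symm.trans h16)
      omega
  · rw [show (Subgroup.center D).index = 2 ^ 2 by rw [h] at h1; omega, Nat.factorization_pow_self Nat.prime_two]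
    exact Nat.lt_succ_of_le (hP.ht_le_one hM hB h16 h χ hχ)

end Cfsg.Agent.S4577
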