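import Cfsg.Statements.S4779
import Cfsg.Agent.Char.RelGraph

set_option autoImplicit false
open Cfsg

namespace Cfsg.Agent.S4779

theorem exists_prime_dvd_or {N : Type*} [Group N] [Finite N] [Group.IsSolvable N] :
    ∃ r : ℕ, 1 < r ∧ ∀ θ : IrrCharacter N, charDegree θ.1 ≠ 1 →
      (charDegree θ.1).Coprime (commutator N).index →
      r ∣ charDegree θ.1 ∨ ∃ e ∈ charDegrees N, charDegree θ.1 ∣ e ∧
        ¬ e.Coprime (commutator N).index := by
  by_cases hG : ∀ a b : N, a * b = b * a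
  · exact ⟨2, one_lt_two, fun θ h => absurd (θ.charDegree_eq_one_of_comm hG) h⟩
  obtain ⟨K, hK, hJ⟩ := exists_isJustNonab_quotient' hG
  rcases hJ.pQuot_or_frobQuot with ⟨Z, p, β, hp⟩ | ⟨M, r, hF⟩
  · have hpm : p ∣ (commutator N).index := by
      refine Dvd.dvd.trans ?_ (Subgroup.index_dvd_of_le hp.commutator_le)
      rw [← hp.sq]
      exact hp.dvd.pow two_ne_zero
    refine ⟨2, one_lt_two, fun θ _ h => Or.inr ⟨_, hp.mul_mem_of_not_dvd (χ := θ) fun h' => ?_,
      dvd_mul_left _ _, fun h' => ?_⟩⟩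
    · exact hp.prime.ne_one (Nat.eq_one_of_dvd_coprimes h h' hpm)
    · exact hp.prime.ne_one (Nat.eq_one_of_dvd_coprimes h' (hp.dvd.mul_right _) hpm)
  · have := hF.normal
    have hM := Subgroup.index_dvd_of_le hF.commutator_le
    refine ⟨r, hF.prime.one_lt, fun θ _ h => ?_⟩
    have hi := θ.isIrr_comp_of_coprime (f := M.subtype) (by
      rw [Subgroup.range_subtype]; exact Nat.Coprime.coprime_dvd_right hM h)
    have hd : charDegree (θ.1 ∘ M.subtype) = charDegree θ.1 := by
      simp [charDegree]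
    rcases hF.mem_or_prime_dvd ⟨_, hi⟩ with h1 | h1
    · refine Or.inr ⟨_, h1, ?_, fun h' => hF.ne_one
        (Nat.eq_one_of_dvd_coprimes h' (dvd_mul_right _ _) hM)⟩
      rw [← hd]
      exact dvd_mul_left _ _
    · exact Or.inl (hd ▸ h1)

theorem exists_common {G : Type*} [Group G] [Finite G] {N : Subgroup G} [N.Normal]
    (hNG : N ≤ commutator G) {χ ψ : IrrCharacter G} {θ : IrrCharacter N} {μ : N →* ℂˣ}
    (hθ : charDegree θ.1 ≠ 1) (hμ : μ ≠ 1) (hχ : LiesOver N.subtype χ.1 θ.1)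
    (hψ : LiesOver N.subtype ψ.1 (IrrCharacter.ofLinear μ).1)
    (h1 : (charDegree χ.1).Coprime (Nat.card (N →* ℂˣ)))
    (h2 : (charDegree ψ.1).Coprime (Nat.card (N →* ℂˣ))) :
    ∃ d ∈ relCharDegrees N, ¬ (charDegree χ.1).Coprime d ∧ ¬ (charDegree ψ.1).Coprime d := by
  have hf : N.subtype.range ≤ commutator G := by rwa [Subgroup.range_subtype]
  have hc := Nat.Coprime.coprime_dvd_left hχ.charDegree_dvd h1
  obtain ⟨ν, θ₀, rfl, -, h0⟩ := θ.exists_linear_smul_eq_of_coprime hc
  have hm : orderOf μ ∣ Nat.card (N →* ℂˣ) := orderOf_dvd_natCard μ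
  rw [IrrCharacter.charDegree_linear_smul] at hθ hc
  have c1 := Nat.Coprime.coprime_dvd_left hm h0.symm
  have c2 := Nat.Coprime.coprime_dvd_left hm hc.symm
  obtain ⟨s, hs, h⟩ := exists_one_lt_dvd_of_linear hf hμ
  obtain ⟨ξ, hξ, hx⟩ := exists_mem_relCharDegrees (linear_smul_ne_one_of_coprime hμ c1)
  refine ⟨_, hx, fun h' => hθ (Nat.eq_one_of_dvd_coprimes h' ?_ ?_), fun h' => hs.ne'
    (Nat.eq_one_of_dvd_coprimes h' (h (IrrCharacter.one N) (by simp) ?_ ψ (by simpa using hψ))
      (h θ₀ c2 c1 ξ hξ))⟩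
  · simpa using hχ.charDegree_dvd
  · simpa using hξ.charDegree_dvd
  · rw [← IrrCharacter.ofLinear_one, detHom_ofLinear]
    simp

/-- Let N be a solvable normal subgroup of the finite group G contained in the derived subgroup of G, and consider the common-divisor graph on the relative degree set cd(G|N) (degrees of irreducible complex characters of G whose kernel does not contain N, two distinct degrees adjacent when not coprime). If this graph has two vertices that are not joined by any path, then there is a vertex a₀ such that any two distinct vertices in the component of a₀ are adjacent, and any two distinct vertices outside that component are adjacent or have a common neighbour (one component is complete, the other has diameter at most 2). -/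
theorem result {G : Type*} [Group G] [Finite G] (N : Subgroup G) [N.Normal] [Group.IsSolvable N] (hNG : N ≤ commutator G) (hdisc : ¬ (Cfsg.commonDivisorGraph.induce (Cfsg.relCharDegrees N)).Preconnected) : ∃ a₀ : ↥(Cfsg.relCharDegrees N), (∀ b c : ↥(Cfsg.relCharDegrees N), (Cfsg.commonDivisorGraph.induce (Cfsg.relCharDegrees N)).Reachable a₀ b → (Cfsg.commonDivisorGraph.induce (Cfsg.relCharDegrees N)).Reachable a₀ c → b ≠ c → (Cfsg.commonDivisorGraph.induce (Cfsg.relCharDegrees N)).Adj b c) ∧ (∀ b c : ↥(Cfsg.relCharDegrees N), ¬ (Cfsg.commonDivisorGraph.induce (Cfsg.relCharDegrees N)).Reachable a₀ b → ¬ (Cfsg.commonDivisorGraph.induce (Cfsg.relCharDegrees N)).Reachable a₀ c → b ≠ c → (Cfsg.commonDivisorGraph.induce (Cfsg.relCharDegrees N)).Adj b c ∨ ∃ d : ↥(Cfsg.relCharDegrees N), (Cfsg.commonDivisorGraph.induce (Cfsg.relCharDegrees N)).Adj b d ∧ (Cfsg.commonDivisorGraph.induce (Cfsg.relCharDegrees N)).Adj d c) := by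
  have hN : ⁅N, N⁆.relIndex N ≠ 1 := by
    intro e
    rw [relIndex_commutator_eq_card_linear, card_linear, Subgroup.index_eq_one] at e
    have hs : Subsingleton N := by
      by_contra h
      rw [not_subsingleton_iff_nontrivial] at h
      exact (Group.IsSolvable.commutator_lt_top_of_nontrivial N).ne e
    refine hdisc fun a _ => ?_
    obtain ⟨χ, ⟨x, hx, hne⟩, -⟩ := a.2
    have : x = 1 := congrArg Subtype.val (hs.elim ⟨x, hx⟩ 1)
    exact absurd (this ▸ rfl) hne
  obtain ⟨p, hp, hpm⟩ := Nat.exists_prime_and_dvd hN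
  obtain ⟨a, b, hab, ha, hb⟩ : ∃ a b : relCharDegrees N,
      ¬ (commonDivisorGraph.induce (relCharDegrees N)).Reachable a b ∧
      a.1.Coprime (⁅N, N⁆.relIndex N) ∧ ∀ r : ℕ, r.Prime → r ∣ ⁅N, N⁆.relIndex N → r ∣ b.1 := by
    simp only [SimpleGraph.Preconnected, not_forall] at hdisc
    obtain ⟨a, b, h⟩ := hdisc
    rcases rel_dichotomy hNG h with h' | h'
    · exact ⟨a, b, h, h'⟩
    · exact ⟨b, a, fun e => h e.symm, h'⟩
  have hpa : ¬ p ∣ a.1 := fun h => hp.ne_one (Nat.eq_one_of_dvd_coprimes ha h hpm)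
  refine ⟨b, fun c c' hc hc' hne => ?_, fun c c' hc hc' hne => ?_⟩
  · have key : ∀ c, (commonDivisorGraph.induce (relCharDegrees N)).Reachable b c → p ∣ c.1 := by
      intro c hc
      by_contra h
      exact hab ((rel_reachable_of_not_dvd hNG hp hpm hpa h).trans hc.symm)
    exact commonDivisor_adj_of_dvd hne (ne_zero_of_mem_relCharDegrees c.2) hp.one_lt (key c hc)
      (key c' hc')
  have key : ∀ c, ¬ (commonDivisorGraph.induce (relCharDegrees N)).Reachable b c →
      c.1.Coprime (⁅N, N⁆.relIndex N) := by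
    intro c hc
    rcases rel_dichotomy hNG hc with h | h
    · exact absurd (Nat.eq_one_of_dvd_coprimes h.1 (hb p hp hpm) hpm) hp.ne_one
    · exact h.1
  have adj : ∀ {x y : relCharDegrees N}, x ≠ y → ¬ x.1.Coprime y.1 →
      (commonDivisorGraph.induce (relCharDegrees N)).Adj x y := by
    intro x y hxy h
    obtain ⟨r, hr, h1, h2⟩ := Nat.Prime.not_coprime_iff_dvd.1 h
    exact commonDivisor_adj_of_dvd hxy (ne_zero_of_mem_relCharDegrees x.2) hr.one_lt h1 h2
  by_cases hcc : c.1.Coprime c'.1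
  swap
  · exact Or.inl (adj hne hcc)
  suffices h : ∃ d ∈ relCharDegrees N, ¬ c.1.Coprime d ∧ ¬ c'.1.Coprime d by
    obtain ⟨d, hd, h1, h2⟩ := h
    refine Or.inr ⟨⟨d, hd⟩, adj ?_ h1, (adj ?_ h2).symm⟩
    · rintro rfl
      exact h2 hcc.symm
    · rintro rfl
      exact h1 hcc
  have k1 := key c hc
  have k2 := key c' hc'
  rw [relIndex_commutator_eq_card_linear] at k1 k2
  obtain ⟨χ, θ, hθ, hχ, hd⟩ := exists_liesOver_of_mem_relCharDegrees c.2
  obtain ⟨ψ, φ, hφ, hψ, hd'⟩ := exists_liesOver_of_mem_relCharDegrees c'.2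
  rw [← hd] at k1 hcc ⊢
  rw [← hd'] at k2 hcc ⊢
  by_cases e1 : charDegree θ.1 = 1
  · obtain ⟨lam, rfl⟩ := IrrCharacter.exists_ofLinear_eq_of_charDegree e1
    have hl := mt IrrCharacter.ofLinear_eq_one_iff.2 hθ
    by_cases e2 : charDegree φ.1 = 1
    · obtain ⟨μ, rfl⟩ := IrrCharacter.exists_ofLinear_eq_of_charDegree e2
      have k := (Nat.Coprime.mul_left k1 k2).symm
      exact exists_common_of_linear hNG hl (mt IrrCharacter.ofLinear_eq_one_iff.2 hφ) hχ hψ hcc
        (Nat.Coprime.coprime_dvd_left (orderOf_dvd_natCard lam) k)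
        (Nat.Coprime.coprime_dvd_left (orderOf_dvd_natCard μ) k)
    · obtain ⟨d, h0, h1, h2⟩ := exists_common hNG e2 hl hψ hχ k2 k1
      exact ⟨d, h0, h2, h1⟩
  by_cases e2 : charDegree φ.1 = 1
  · obtain ⟨μ, rfl⟩ := IrrCharacter.exists_ofLinear_eq_of_charDegree e2
    exact exists_common hNG e1 (mt IrrCharacter.ofLinear_eq_one_iff.2 hφ) hχ hψ k1 k2
  obtain ⟨r, hr, h⟩ := exists_prime_dvd_or (N := N)
  have key2 : ∀ (c : relCharDegrees N) (χ : IrrCharacter G) (θ : IrrCharacter N),
      ¬ (commonDivisorGraph.induce (relCharDegrees N)).Reachable b c → charDegree θ.1 ≠ 1 →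
      LiesOver N.subtype χ.1 θ.1 → charDegree χ.1 = c.1 → r ∣ charDegree χ.1 := by
    intro c χ θ hc e hχ hd
    have k := key c hc
    rw [relIndex_commutator_eq_card_linear, card_linear, ← hd] at k
    rcases h θ e (Nat.Coprime.coprime_dvd_left hχ.charDegree_dvd k) with h1 | ⟨_, ⟨η, rfl⟩, h1, h2⟩
    · exact h1.trans hχ.charDegree_dvd
    · exfalso
      have hη : η ≠ IrrCharacter.one N := by
        rintro rfl
        simp at h2
      obtain ⟨ξ, hξ, hx⟩ := exists_mem_relCharDegrees hη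
      obtain ⟨q, hq, h3, h4⟩ := Nat.Prime.not_coprime_iff_dvd.1 h2
      rw [← card_linear, ← relIndex_commutator_eq_card_linear] at h4
      exact hc ((rel_reachable_of_dvd (b := ⟨_, hx⟩) hq.one_lt (hb q hq h4)
        (h3.trans hξ.charDegree_dvd)).trans (rel_reachable_of_dvd
          (lt_of_le_of_ne θ.charDegree_pos (Ne.symm e)) (h1.trans hξ.charDegree_dvd)
          (hd ▸ hχ.charDegree_dvd)))
  exact absurd (Nat.eq_one_of_dvd_coprimes hcc (key2 c χ θ hc e1 hχ hd) (key2 c' ψ φ hc' e2 hψ hd'))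
    hr.ne'

end Cfsg.Agent.S4779
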