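import Cfsg.Statements.S4811
import Cfsg.Agent.Char.MinNonab
import Cfsg.Agent.Char.Degrees
import Cfsg.Agent.Char.Extend

set_option autoImplicit false
open Cfsg

namespace Cfsg.Agent.S4811

theorem card_le_two {V : Type*} (Γ : SimpleGraph V) (A : Set V) (hA : A.ncard ≤ 2)
    (hf : A.Finite) (h : ∀ v, ∃ a ∈ A, Γ.Reachable a v) : Nat.card Γ.ConnectedComponent ≤ 2 := by
  have := hf.to_subtype
  refine le_trans (Nat.card_le_card_of_surjective (fun a : A => Γ.connectedComponentMk a.1) ?_) ?_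
  · intro c
    induction c using SimpleGraph.ConnectedComponent.ind with
    | _ v =>
      obtain ⟨a, ha, hr⟩ := h v
      exact ⟨⟨a, ha⟩, SimpleGraph.ConnectedComponent.sound hr⟩
  · rwa [Nat.card_coe_set_eq]

theorem reach {G : Type*} [Group G] {a v : degreePrimes G} {d : ℕ} (hd : d ∈ charDegrees G)
    (ha : a.1 ∣ d) (hv : v.1 ∣ d) : ((degreeGraph G).induce (degreePrimes G)).Reachable a v := by
  by_cases h : a = v
  · rw [h]
  · have h' : a.1 ≠ v.1 := fun e => h (Subtype.ext e)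
    exact SimpleGraph.Adj.reachable (show (degreeGraph G).Adj a.1 v.1 from
      ⟨h', a.2.1, v.2.1, d, hd, ((Nat.coprime_primes a.2.1 v.2.1).2 h').mul_dvd_of_dvd_of_dvd ha hv⟩)

theorem main {G : Type*} [Group G] (r s : ℕ)
    (h : ∀ v : degreePrimes G, ∃ d ∈ charDegrees G, v.1 ∣ d ∧
      ((r.Prime ∧ r ∣ d) ∨ (s.Prime ∧ s ∣ d))) :
    Nat.card ((degreeGraph G).induce (degreePrimes G)).ConnectedComponent ≤ 2 := by
  have hf : (Subtype.val ⁻¹' ({r, s} : Set ℕ) : Set (degreePrimes G)).Finite :=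
    (Set.toFinite _).preimage Subtype.val_injective.injOn
  refine card_le_two _ (Subtype.val ⁻¹' ({r, s} : Set ℕ)) ?_ hf fun v => ?_
  · refine le_trans (Set.ncard_le_ncard_of_injOn (t := ({r, s} : Set ℕ)) Subtype.val
      (fun a ha => ha) Subtype.val_injective.injOn) ?_
    exact (Set.ncard_insert_le _ _).trans (by simp)
  · obtain ⟨d, hd, hv, ⟨hr, hrd⟩ | ⟨hs, hsd⟩⟩ := h v
    · exact ⟨⟨r, hr, d, hd, hrd⟩, Or.inl rfl, reach hd hrd hv⟩
    · exact ⟨⟨s, hs, d, hd, hsd⟩, Or.inr rfl, reach hd hsd hv⟩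

/-- For every finite solvable group G the character degree graph of G (vertices: the primes dividing some irreducible complex character degree; edges: distinct primes whose product divides some degree) has at most two connected components. -/
theorem result {G : Type*} [Group G] [Finite G] [Group.IsSolvable G] : Nat.card ((Cfsg.degreeGraph G).induce (Cfsg.degreePrimes G)).ConnectedComponent ≤ 2 := by
  by_cases hG : ∀ a b : G, a * b = b * a
  · refine main 2 2 fun v => ?_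
    obtain ⟨q, hq, d, hd, hqd⟩ := v
    rw [Set.mem_singleton_iff.1 (comm_iff_charDegrees_subset.1 hG hd)] at hqd
    exact absurd (Nat.dvd_one.1 hqd) hq.ne_one
  obtain ⟨K, hK, hJ⟩ := exists_isJustNonab_quotient' hG
  rcases hJ.pQuot_or_frobQuot with ⟨Z, p, β, hp⟩ | ⟨N, r, hF⟩
  · refine main p p ?_
    rintro ⟨q, hq, _, ⟨χ, rfl⟩, hqd⟩
    by_cases h2 : p ∣ charDegree χ.1
    · exact ⟨_, χ.charDegree_mem, hqd, Or.inl ⟨hp.prime, h2⟩⟩
    · exact ⟨_, hp.mul_mem_of_not_dvd h2, hqd.mul_left _, Or.inl ⟨hp.prime, hp.dvd.mul_right _⟩⟩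
  · obtain ⟨s, hs, hsd⟩ := Nat.exists_prime_and_dvd hF.ne_one
    refine main r s ?_
    rintro ⟨q, hq, _, ⟨χ, rfl⟩, hqd⟩
    have := hF.normal
    obtain ⟨ψ, hψ⟩ := χ.exists_liesOver_below N.subtype
    have h1 := hqd.trans hψ.charDegree_dvd_mul_index
    rw [Subgroup.range_subtype] at h1
    rcases (Nat.Prime.dvd_mul hq).1 h1 with h1 | h1
    · rcases hF.mem_or_prime_dvd ψ with h2 | h2
      · exact ⟨_, h2, h1.mul_left _, Or.inr ⟨hs, hsd.mul_right _⟩⟩
      · exact ⟨_, χ.charDegree_mem, hqd, Or.inl ⟨hF.prime, h2.trans hψ.charDegree_dvd⟩⟩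
    · exact ⟨_, hF.index_mem, h1, Or.inr ⟨hs, hsd⟩⟩

end Cfsg.Agent.S4811
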