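import Cfsg.Statements.S4903
import Cfsg.Agent.Blk.Nineteen
import Cfsg.Agent.Blk.PrimeCore
-- import your own Cfsg.Agent.* helpers here

set_option autoImplicit false
open Cfsg

namespace Cfsg.Agent.S4903

/-- Let G be a finite group with a faithful irreducible complex character of degree 16, p a prime with p ≥ 19, and P a Sylow p-subgroup of G. Then P is normal in G, or p = 31 and the quotient of G by its centre is isomorphic to PSL(2,31). -/
theorem result {G : Type*} [Group G] [Finite G] (χ : Cfsg.IrrCharacter G) (hdeg : Cfsg.charDegree (χ : G → ℂ) = 16) (hfaith : ∀ g : G, (χ : G → ℂ) g = (χ : G → ℂ) 1 → g = 1) (p : ℕ) [Fact p.Prime] (hp : 19 ≤ p) (P : Sylow p G) : (P : Subgroup G).Normal ∨ (p = 31 ∧ Nonempty (G ⧸ Subgroup.center G ≃* Matrix.ProjectiveSpecialLinearGroup (Fin 2) (ZMod 31))) := by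
  by_contra hn
  rw [not_or] at hn
  have hf : charKer χ.1 = ⊥ := eq_bot_iff.2 fun g hg => hfaith g (χ.mem_charKer.1 hg)
  obtain ⟨hs, h⟩ := χ.exists_smallDeg_commutator hf (by omega) (by omega) P hn.1
  obtain ⟨Q⟩ : Nonempty (Sylow p (commutator G)) := inferInstance
  replace h := h Q
  let _ := Fintype.ofFinite (Q : Subgroup (commutator G))
  have hd : charDegree (χ.1 ∘ (commutator G).subtype) = 16 :=
    charDegree_eq_of_apply_one (by simp [χ.apply_one, hdeg])
  obtain ⟨x, hx, hx1, hD⟩ | ⟨e, t, -, h1, h2, h3, -⟩ := h.core (by omega)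
  · obtain ⟨⟨φ⟩, -, h1⟩ := h.psl_of_dickson hx hx1 hD
    obtain ⟨ψ⟩ := nonempty_quotient_center_equiv hs
    rw [hd] at h1
    obtain rfl : p = 31 := by
      rcases h1 with h1 | h1
      · omega
      · obtain rfl : p = 33 := by omega
        exact absurd (Fact.out : Nat.Prime 33) (by norm_num)
    exact hn.2 ⟨rfl, ⟨ψ.trans φ⟩⟩
  · rw [hd] at h1
    obtain rfl : p = 19 := by nlinarith [Nat.mul_le_mul_left e h3]
    exact h.false_of_nineteen (commutator_perfect_of_sup_center hs) hd

end Cfsg.Agent.S4903
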