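import Cfsg.Statements.S4904
import Cfsg.Agent.Blk.SmallSeven
import Cfsg.Agent.Blk.SmallFive
import Cfsg.Agent.Blk.PrimeCore
import Cfsg.Agent.Char.Blichfeldt
-- import your own Cfsg.Agent.* helpers here

set_option autoImplicit false
open Cfsg

namespace Cfsg.Agent.S4904

/-- Let G be a finite group with a faithful irreducible complex character of degree d < 27, and p a prime with p > d + 1 and P a Sylow p-subgroup of G. Then one of the following holds: P is normal in G; the quotient of G by its centre is isomorphic to PSL(2,p) and 2d = p + 1 or 2d = p − 1; p = 17, d = 15 and G is isomorphic to the direct product of SL(2,16) with an abelian group; p = 7, d = 4 and G modulo its centre is the alternating group of degree 7; p = 5, d = 3 and G modulo its centre is the alternating group of degree 6. -/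
theorem result {G : Type*} [Group G] [Finite G] (d : ℕ) (hd : d < 27) (χ : Cfsg.IrrCharacter G) (hdeg : Cfsg.charDegree (χ : G → ℂ) = d) (hfaith : ∀ g : G, (χ : G → ℂ) g = (χ : G → ℂ) 1 → g = 1) (p : ℕ) [Fact p.Prime] (hp : d + 1 < p) (P : Sylow p G) : (P : Subgroup G).Normal ∨ (Nonempty (G ⧸ Subgroup.center G ≃* Matrix.ProjectiveSpecialLinearGroup (Fin 2) (ZMod p)) ∧ (2 * d = p + 1 ∨ 2 * d = p - 1)) ∨ (p = 17 ∧ d = 15 ∧ ∃ (A : Type) (_ : CommGroup A) (_ : Finite A), Nonempty (G ≃* Matrix.SpecialLinearGroup (Fin 2) (GaloisField 2 4) × A)) ∨ (p = 7 ∧ d = 4 ∧ Nonempty (G ⧸ Subgroup.center G ≃* ↥(alternatingGroup (Fin 7)))) ∨ (p = 5 ∧ d = 3 ∧ Nonempty (G ⧸ Subgroup.center G ≃* ↥(alternatingGroup (Fin 6)))) := by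
  by_cases hn : (P : Subgroup G).Normal
  · exact Or.inl hn
  refine Or.inr ?_
  have hf : charKer χ.1 = ⊥ := eq_bot_iff.2 fun g hg => hfaith g (χ.mem_charKer.1 hg)
  have hpp : p.Prime := Fact.out
  have h5 : 5 ≤ p := by
    by_contra h5
    have h1 := χ.charDegree_pos
    have h4 : p ≠ 4 := fun e => by rw [e] at hpp; norm_num at hpp
    have := χ.isCharacter.comm_of_forall_prime_gt hfaith fun q hq _ => by
      have := hq.two_le; omega
    exact hn ⟨fun x hx g => by rwa [this g, mul_inv_cancel_right]⟩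
  obtain ⟨hs, h⟩ := χ.exists_smallDeg_commutator hf h5 (by omega) P hn
  obtain ⟨Q⟩ : Nonempty (Sylow p (commutator G)) := inferInstance
  replace h := h Q
  let _ := Fintype.ofFinite (Q : Subgroup (commutator G))
  have hd' : charDegree (χ.1 ∘ (commutator G).subtype) = d := (charDegree_comp _ _).trans hdeg
  have hG := commutator_perfect_of_sup_center hs
  obtain ⟨ψ⟩ := nonempty_quotient_center_equiv hs
  by_cases hD : ∃ x ∈ (Q : Subgroup (commutator G)), x ≠ 1 ∧ DicksonData p x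
  · obtain ⟨x, hx, hx1, hD⟩ := hD
    obtain ⟨⟨φ⟩, -, h1⟩ := h.psl_of_dickson hx hx1 hD
    exact Or.inl ⟨⟨ψ.trans φ⟩, hd' ▸ h1⟩
  have h1 := (h.dichotomy.resolve_left fun e => by
    obtain ⟨x, hx, hx1⟩ := h.exists_ne_one
    exact hD ⟨x, hx, hx1, e.2 x hx hx1⟩).1
  have h2 := h.relIndex_le
  rw [hd'] at h1 h2
  by_cases h3 : d = p - 2 ∧ 5 < p
  · obtain ⟨h4, a, F, _, _, h6, h7, ⟨e⟩⟩ :=
      PmTwo.main ⟨h.card, h3.2, h.nn, h.faith, hd'.trans h3.1, hG⟩
    obtain rfl : a = 4 := by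
      have : a < 5 := (Nat.pow_lt_pow_iff_right one_lt_two).1 (by omega)
      interval_cases a <;> first | rfl | omega | (rw [h6] at hpp; norm_num at hpp)
    obtain ⟨θ⟩ := nonempty_equiv_prod_center hs h4
    let _ := Fintype.ofFinite (GaloisField 2 4)
    let _ : CommGroup (Subgroup.center G) :=
      { (inferInstance : Group (Subgroup.center G)) with mul_comm := mul_comm' }
    have f := FiniteField.ringEquivOfCardEq (K' := GaloisField 2 4) (h7.trans (by
      rw [← Nat.card_eq_fintype_card, GaloisField.card 2 4 (by decide)]))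
    refine Or.inr (Or.inl ⟨h6, by omega, Shrink.{0} (Subgroup.center G), inferInstance,
      inferInstance, ⟨θ.trans ((e.trans (MonoidHom.toMulEquiv
        (Matrix.SpecialLinearGroup.map f.toRingHom) (Matrix.SpecialLinearGroup.map f.symm.toRingHom)
        ?_ ?_)).prodCongr Shrink.mulEquiv.symm)⟩⟩) <;> ext <;> simp
  rcases (by omega : p = 5 ∨ p = 6 ∨ p = 7 ∨ 7 < p) with rfl | rfl | rfl | h7
  · obtain rfl : d = 3 := by omega
    rcases h.five_three hG hd' with ⟨⟨φ⟩⟩ | ⟨⟨φ⟩⟩
    exacts [Or.inl ⟨⟨ψ.trans φ⟩, Or.inl rfl⟩, Or.inr (Or.inr (Or.inr ⟨rfl, rfl, ⟨ψ.trans φ⟩⟩))]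
  · norm_num at hpp
  · obtain rfl : d = 4 := by omega
    rcases h.seven_four hG hd' with ⟨⟨φ⟩⟩ | ⟨⟨φ⟩⟩
    exacts [Or.inl ⟨⟨ψ.trans φ⟩, Or.inl rfl⟩, Or.inr (Or.inr (Or.inl ⟨rfl, rfl, ⟨ψ.trans φ⟩⟩))]
  obtain ⟨e, t, -, h8, h9, h10, h11, -⟩ := (h.core h7).resolve_left hD
  rw [hd'] at h8
  have h12 : e < 5 := by nlinarith
  exfalso
  interval_cases e
  · omega
  · omega
  · omega
  · obtain rfl : p = 19 := by
      rcases (by omega : p = 19 ∨ p = 22 ∨ p = 25 ∨ p = 28) with e | e | e | e <;>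
        first | exact e | (rw [e] at hpp; norm_num at hpp)
    exact h.false_of_nineteen hG (hd'.trans (by omega))
  · have := IrrCharacter.card_center_dvd_of_perfect _ h.faith hG
    rw [hd', show d = 25 by omega] at this
    exact absurd (h11 (Odd.of_dvd_nat (by decide) this)) (by decide)

end Cfsg.Agent.S4904
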