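import Cfsg.Statements.S4905
import Cfsg.Agent.Snd.Main

set_option autoImplicit false
open Cfsg

namespace Cfsg.Agent.S4905

/-- Let n be a natural number and G a finite group whose irreducible complex characters can be put in bijection with those of the symmetric group of degree n so that corresponding characters have equal degrees (equivalently, the complex group algebras are isomorphic). Then G is isomorphic to the symmetric group of degree n. -/
theorem result {G : Type*} [Group G] [Finite G] (n : ℕ) (f : Cfsg.IrrCharacter G ≃ Cfsg.IrrCharacter (Equiv.Perm (Fin n))) (hf : ∀ χ : Cfsg.IrrCharacter G, Cfsg.charDegree ((f χ) : Equiv.Perm (Fin n) → ℂ) = Cfsg.charDegree (χ : G → ℂ)) : Nonempty (G ≃* Equiv.Perm (Fin n)) :=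
  Cfsg.Snd.Main.main ⟨f, hf⟩

end Cfsg.Agent.S4905
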